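import Cfsg.Agent.Lib.Orth.Balance.GraphNonsq
import Cfsg.Agent.Lib.Orth.Split
import Cfsg.Agent.Lib.Coprime.Core

/-!
# No odd core in the centraliser of an involutory graph automorphism
-/

set_option autoImplicit false
set_option linter.all false

namespace CfsgLib.Orth.Balance

open scoped Matrix
open Matrix Cfsg.Geo CfsgLib.Orth CfsgLib.Perm.Asch CfsgLib.Perm.Trans CfsgLib.Perm.Trans.Quad

variable {F : Type*} [Field F] [Fintype F] {ι : Type} [Fintype ι] [DecidableEq ι] {Q : (ι → F) → F}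

local notation "Sim" => Cfsg.Geo.quadSimilarityGroup (F := F)

variable (hQ : IsNondegenerateQuadraticForm Q)
include hQ

/-- an automorphism induced by a multiple of `1` or of `g` is `1` or the one of `g` -/
theorem ind_one_or {g : ↥(Sim Q)} (hn : 5 ≤ Fintype.card ι) {h : GL ι F}
    (hh : Cfsg.IsSemisimilarityPair Q h (RingEquiv.refl F))
    (e : ∃ a : F, (h : Matrix ι ι F) = a • 1 ∨ (h : Matrix ι ι F) = a • (g.1 : Matrix ι ι F)) :
    ind hh = 1 ∨ ind hh = simHom Q g := by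
  obtain ⟨a, e | e⟩ := e
  · refine Or.inl ((FieldCls.ind_scalar hh (semisim_one (Q := Q)) (c := a) ?_).trans ind_one)
    rw [e, Units.val_one]
  · exact Or.inr (FieldCls.ind_scalar hh (sim_pair g.2) e)

/-- a small group of fixed inner automorphisms normalised by the centraliser -/
theorem fixed_inner_trivial (h2 : (2 : F) ≠ 0) (hn5 : 5 ≤ Fintype.card ι) (g : ↥(Sim Q)) {c : F} (hc0 : c ≠ 0)
    (hG : ∀ v, Q ((g.1 : Matrix ι ι F) *ᵥ v) = c * Q v) (hxInn : simHom Q g ∉ Cfsg.Inn (Cfsg.POmega F Q))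
    (hsgn : ∀ Y : Subgroup (GL ι F), Y ≤ commIso Q g.1 → (-1 : GL ι F) ∈ Y →
      (∀ u ∈ commIso Q g.1, ∀ y ∈ Y, u * y * u⁻¹ ∈ Y) → (∀ N : ℕ, Odd N → (∀ y ∈ Y, y ^ N = 1 ∨ y ^ N = -1) →
      ∀ u ∈ Y, ∃ a : F, (u : Matrix ι ι F) = a • 1 ∨ (u : Matrix ι ι F) = a • (g.1 : Matrix ι ι F)))
    (M : Subgroup (MulAut (Cfsg.POmega F Q))) [Finite ↥M] (hMI : M ≤ Cfsg.Inn (Cfsg.POmega F Q))
    (hMC : ∀ β ∈ M, simHom Q g * β = β * simHom Q g) (hMo : Odd (Nat.card ↥M))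
    (hMn : ∀ w, simHom Q g * w = w * simHom Q g → ∀ β ∈ M, w * β * w⁻¹ ∈ M) : M = ⊥ := by
  obtain ⟨Yp, hYp⟩ : ∃ Yp : Subgroup (GL ι F), ∀ u, u ∈ Yp ↔ u ∈ commIso Q g.1 ∧
      ∃ hu : u ∈ Sim Q, simHom Q ⟨u, hu⟩ ∈ M := by
    refine ⟨commIso Q g.1 ⊓ (M.comap (simHom Q)).map (Sim Q).subtype, fun u => ?_⟩
    rw [Subgroup.mem_inf, Subgroup.mem_map]
    exact and_congr_right fun _ => ⟨fun ⟨w, hw, e⟩ => by subst e; exact ⟨w.2, hw⟩, fun ⟨hu, h⟩ => ⟨⟨u, hu⟩, h, rfl⟩⟩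
  have hsgn1 : ∀ w : ↥(Sim Q), w.1 ∈ Cfsg.isometryGroup F Q → simHom Q w = 1 → w.1 = 1 ∨ w.1 = -1 := by
    intro w hw h1
    obtain ⟨a, ha⟩ := (simHom_ker hQ hn5 _).1 h1
    obtain ⟨v, hv⟩ := exists_ns hQ (by omega)
    have h2' := mem_iso.1 hw v
    rw [ha, smul_mulVec, one_mulVec, qsmul hQ] at h2'
    rcases sq_eq_one_iff.1 (mul_right_cancel₀ hv (by rw [h2', one_mul]) : a ^ 2 = 1) with e | e
    · exact Or.inl (Units.ext (by rw [ha, e, one_smul, Units.val_one]))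
    · exact Or.inr (Units.ext (by rw [ha, e, neg_one_smul, Units.val_neg, Units.val_one]))
  have hpow : ∀ w : ↥(Sim Q), w.1 ∈ Cfsg.isometryGroup F Q → simHom Q w ∈ M →
      w.1 ^ Nat.card ↥M = 1 ∨ w.1 ^ Nat.card ↥M = -1 := by
    intro w hw hm
    refine hsgn1 (w ^ Nat.card ↥M) (pow_mem hw _) ?_
    rw [map_pow]
    exact congrArg Subtype.val (pow_card_eq_one' (x := (⟨_, hm⟩ : ↥M)))
  refine (Subgroup.eq_bot_iff_forall _).2 fun β hβ => ?_
  obtain ⟨u, hui, hsu⟩ : ∃ (u : ↥(Sim Q)), u.1 ∈ Cfsg.isometryGroup F Q ∧ simHom Q u = β := by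
    have hβI := hMI hβ
    rw [inn_eq] at hβI
    obtain ⟨w, ⟨w0, -, hww⟩, he⟩ := hβI
    exact ⟨w, by rw [show w.1 = w0.1 from hww.symm]; exact w0.2, he⟩
  have hgu : g.1 * u.1 = u.1 * g.1 := by
    have hcomm : simHom Q (g * u) = simHom Q (u * g) := by rw [map_mul, map_mul, hsu]; exact hMC β hβ
    obtain ⟨-, a, ha⟩ := ind_inj hQ hn5 (h := sim_pair (g * u).2) (h' := sim_pair (u * g : ↥(Sim Q)).2) hcomm
    have ha' : (g.1 : Matrix ι ι F) * (u.1 : Matrix ι ι F) = a • ((u.1 : Matrix ι ι F) * (g.1 : Matrix ι ι F)) := ha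
    have hit : ∀ j : ℕ, (g.1 : Matrix ι ι F) * (u.1 : Matrix ι ι F) ^ j =
        a ^ j • ((u.1 : Matrix ι ι F) ^ j * (g.1 : Matrix ι ι F)) := by
      intro j
      induction j with
      | zero => simp
      | succ j ih => rw [pow_succ, ← mul_assoc, ih, smul_mul_assoc, mul_assoc, ha', mul_smul_comm, smul_smul,
          ← mul_assoc, pow_succ a]
    haveI : Nonempty ι := Fintype.card_pos_iff.1 (by omega)
    have haN : a ^ Nat.card ↥M = 1 := by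
      have h := hit (Nat.card ↥M)
      rw [← Units.val_pow_eq_pow_val] at h
      rcases hpow u hui (hsu ▸ hβ) with e | e <;> rw [e] at h <;>
        simp only [Units.val_neg, Units.val_one, mul_one, one_mul, mul_neg, neg_mul, smul_neg, neg_inj] at h
      all_goals
        by_contra hne
        have h0 : (1 - a ^ Nat.card ↥M) • (g.1 : Matrix ι ι F) = 0 := by rw [sub_smul, one_smul, ← h, sub_self]
        exact g.1.ne_zero ((smul_eq_zero.1 h0).resolve_left (sub_ne_zero.2 (Ne.symm hne)))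
    have ha2 : a ^ 2 = 1 := by
      obtain ⟨v, hv⟩ := exists_ns hQ (by omega)
      have h1 := congrArg (fun X : Matrix ι ι F => Q (X *ᵥ v)) ha'
      simp only [← mulVec_mulVec, smul_mulVec, qsmul hQ, hG, mem_iso.1 hui] at h1
      exact mul_right_cancel₀ (mul_ne_zero hc0 hv) (by linear_combination -h1)
    rcases sq_eq_one_iff.1 ha2 with e | e
    · exact Units.ext (by rw [Units.val_mul, ha', e, one_smul, Units.val_mul])
    · rw [e, hMo.neg_one_pow] at haN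
      exact absurd (by linear_combination -haN) h2
  have hneg : (-1 : GL ι F) ∈ Yp := by
    refine (hYp _).2 ⟨mem_commIso.2 ⟨neg_one_iso hQ, by rw [mul_neg, neg_mul, mul_one, one_mul]⟩,
      iso_sim (neg_one_iso hQ), ?_⟩
    rw [show simHom Q ⟨-1, iso_sim (neg_one_iso hQ)⟩ = 1 from
      (simHom_ker hQ hn5 _).2 ⟨-1, by rw [neg_one_smul, Units.val_neg, Units.val_one]⟩]
    exact M.one_mem
  have hnorm : ∀ w ∈ commIso Q g.1, ∀ y ∈ Yp, w * y * w⁻¹ ∈ Yp := fun w hw y hy => by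
    obtain ⟨hyc, hys, hym⟩ := (hYp y).1 hy
    obtain ⟨hwi, hwg⟩ := mem_commIso.1 hw
    have hcw : simHom Q g * simHom Q ⟨w, iso_sim hwi⟩ = simHom Q ⟨w, iso_sim hwi⟩ * simHom Q g := by
      rw [← map_mul, ← map_mul]; exact congrArg _ (Subtype.ext hwg)
    refine (hYp _).2 ⟨mul_mem (mul_mem hw hyc) (inv_mem hw), mul_mem (mul_mem (iso_sim hwi) hys) (inv_mem (iso_sim hwi)), ?_⟩
    have h := hMn _ hcw _ hym
    rw [← map_inv, ← map_mul, ← map_mul] at h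
    exact h
  obtain ⟨a, ha⟩ := hsgn Yp (fun y hy => ((hYp y).1 hy).1) hneg hnorm (Nat.card ↥M) hMo
    (fun y hy => by
      obtain ⟨hc', hys, hm⟩ := (hYp y).1 hy
      exact hpow ⟨y, hys⟩ (mem_commIso.1 hc').1 hm)
    u.1 ((hYp _).2 ⟨mem_commIso.2 ⟨hui, hgu⟩, u.2, hsu ▸ hβ⟩)
  rcases ind_one_or hQ (g := g) hn5 (sim_pair u.2) ⟨a, ha⟩ with e | e
  · exact hsu.symm.trans e
  · exact absurd (hMI hβ) (by rw [show β = simHom Q g from hsu.symm.trans e]; exact hxInn)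

/-- the odd core of the centraliser of a graph involution is trivial -/
theorem graph_core (h2 : (2 : F) ≠ 0) (hn : 8 ≤ Fintype.card ι) {k : ℕ} (hk : Fintype.card ι = k + k)
    (g : ↥(Sim Q)) (hord : orderOf (simHom Q g) = 2) (hsign : simSign hQ (by omega) k g ≠ 1)
    (htop : Cfsg.gammaPOmega F Q = ⊤) (A : Subgroup (MulAut (Cfsg.POmega F Q)))
    (hinn : ∀ y, MulAut.conj y ∈ A) :
    Cfsg.pPrimeCore 2 ↥(A ⊓ Subgroup.centralizer {simHom Q g}) = ⊥ := by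
  classical
  have hn5 : 5 ≤ Fintype.card ι := by omega
  haveI : Finite (Cfsg.POmega F Q) := Quotient.finite _
  haveI : Finite (MulAut (Cfsg.POmega F Q)) := Finite.of_injective (fun e => (e : Cfsg.POmega F Q → _)) DFunLike.coe_injective
  obtain ⟨x, hx⟩ : ∃ x, x = simHom Q g := ⟨_, rfl⟩
  rw [← hx] at hord ⊢
  obtain ⟨d, hd⟩ := sq_scalar_of_invol hQ hn5 (hx ▸ hord)
  obtain ⟨c, hc⟩ : ∃ c, c = simMult hQ (by omega) g := ⟨_, rfl⟩
  have hG : ∀ v, Q ((g.1 : Matrix ι ι F) *ᵥ v) = (c : F) * Q v := hc ▸ simMult_spec hQ (by omega) g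
  have hGG : (g.1 : Matrix ι ι F) * (g.1 : Matrix ι ι F) = (d : F) • 1 := by rw [← scalarSim_coe hQ d, ← hd]; rfl
  have hcd : (c : F) = d ∨ (c : F) = -(d : F) := by
    have h := congrArg (fun z => ((simMult hQ (by omega) z : Fˣ) : F)) hd
    simp only [map_mul, simMult_scalar, ← hc, Units.val_mul] at h
    exact mul_self_eq_mul_self_iff.1 h
  have hsg : (g.1 : Matrix ι ι F).det ≠ (c : F) ^ k := fun e => hsign ((simSign_eq_one_iff hQ (by omega) k g).2 (hc ▸ e))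
  obtain ⟨hsgn, hpin⟩ : (∀ Y : Subgroup (GL ι F), Y ≤ commIso Q g.1 → (-1 : GL ι F) ∈ Y →
      (∀ u ∈ commIso Q g.1, ∀ y ∈ Y, u * y * u⁻¹ ∈ Y) → (∀ N : ℕ, Odd N → (∀ y ∈ Y, y ^ N = 1 ∨ y ^ N = -1) →
      ∀ u ∈ Y, ∃ a : F, (u : Matrix ι ι F) = a • 1 ∨ (u : Matrix ι ι F) = a • (g.1 : Matrix ι ι F))) ∧
    ∀ (h : GL ι F) (τ : F ≃+* F) (hh : Cfsg.IsSemisimilarityPair Q h τ), CommInner Q g.1 h hh →
      τ = RingEquiv.refl F ∧ ∃ a : F, (h : Matrix ι ι F) = a • 1 ∨ (h : Matrix ι ι F) = a • (g.1 : Matrix ι ι F) := by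
    by_cases hds : IsSquare (d : F)
    · obtain ⟨t, ht⟩ := hds
      exact split_case hQ h2 hn hk hG hGG ht d.ne_zero hcd hsg
    · exact nonsq_case hQ h2 hn hk hG hGG hds hcd hsg
  haveI hInn := inn_normal (Cfsg.POmega F Q)
  have hInnA : Cfsg.Inn (Cfsg.POmega F Q) ≤ A := by rintro _ ⟨y, rfl⟩; exact hinn y
  have hxInn : x ∉ Cfsg.Inn (Cfsg.POmega F Q) := fun h => hsign
    ((mem_diagSub_iff hQ hn5 hk g).1 (hx ▸ ((inn_le_psoAut hQ hn5 h2).trans (psoAut_le_diagSub hQ hn5 hk)) h))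
  have hcent : ∀ u : GL ι F, ∀ hu : u ∈ Cfsg.isometryGroup F Q, g.1 * u = u * g.1 →
      simHom Q ⟨u, iso_sim hu⟩ ∈ Subgroup.centralizer {x} := fun u hu hgu => by
    rw [Subgroup.mem_centralizer_singleton_iff, hx, ← map_mul, ← map_mul]
    exact congrArg _ (Subtype.ext hgu.symm)
  -- the fixed inner automorphisms have trivial odd core
  obtain ⟨Cx, hCx⟩ : ∃ Cx, Cx = Subgroup.centralizer ({x} : Set (MulAut (Cfsg.POmega F Q))) := ⟨_, rfl⟩
  obtain ⟨H, hH⟩ : ∃ H, H = (Cfsg.Inn (Cfsg.POmega F Q)).subgroupOf Cx := ⟨_, rfl⟩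
  haveI : H.Normal := hH ▸ inferInstance
  obtain ⟨M, hM⟩ : ∃ M : Subgroup ↥Cx, M = (Cfsg.pPrimeCore 2 ↥H).map H.subtype := ⟨_, rfl⟩
  haveI hMn : M.Normal := by
    rw [hM]
    haveI := Coprime.pPrimeCore_characteristic (G := ↥H) 2
    exact Coprime.map_subtype_normal_of_characteristic H _
  have hMo : Odd (Nat.card ↥M) := by
    rw [hM, Subgroup.card_map_of_injective H.subtype_injective, Nat.odd_iff, ← Nat.two_dvd_ne_zero]
    exact Coprime.pPrimeCore_not_dvd Nat.prime_two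
  have hM1 : M = ⊥ := by
    have hmap : M.map Cx.subtype = ⊥ := by
      refine fixed_inner_trivial hQ h2 hn5 g c.ne_zero hG (hx ▸ hxInn) hsgn _ ?_ ?_ ?_ ?_
      · rintro _ ⟨β, hβ, rfl⟩
        have : β ∈ H := by rw [hM] at hβ; exact Subgroup.map_subtype_le _ hβ
        rw [hH, Subgroup.mem_subgroupOf] at this
        exact this
      · rintro _ ⟨β, -, rfl⟩
        have := β.2
        simp only [hCx, Subgroup.mem_centralizer_singleton_iff] at this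
        rw [← hx]
        exact this.symm
      · rw [Subgroup.card_map_of_injective Cx.subtype_injective]; exact hMo
      · rintro w hw _ ⟨β, hβ, rfl⟩
        have hwC : w ∈ Cx := by rw [hCx, Subgroup.mem_centralizer_singleton_iff, hx]; exact hw.symm
        exact ⟨_, hMn.conj_mem β hβ ⟨w, hwC⟩, rfl⟩
    exact (Subgroup.map_eq_bot_iff_of_injective _ Cx.subtype_injective).1 hmap
  -- the whole core
  obtain ⟨C, hC⟩ : ∃ C, C = A ⊓ Cx := ⟨_, rfl⟩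
  rw [← hCx, ← hC]
  haveI : (Cfsg.pPrimeCore 2 ↥C).Normal := by
    haveI := Coprime.pPrimeCore_characteristic (G := ↥C) 2
    infer_instance
  have hCle : ∀ z ∈ C, z ∈ Cx := fun z hz => by rw [hC] at hz; exact hz.2
  have hXI : ∀ ξ : ↥C, ξ ∈ Cfsg.pPrimeCore 2 ↥C → (ξ : MulAut (Cfsg.POmega F Q)) ∈ Cfsg.Inn (Cfsg.POmega F Q) → ξ = 1 := by
    intro ξ hξ hξI
    -- the inner part is a normal subgroup of odd order of the fixed inner automorphisms
    let ι' : ↥H →* ↥C :=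
      { toFun := fun z => ⟨z.1.1, by
          rw [hC]; exact ⟨hInnA (Subgroup.mem_subgroupOf.1 (hH ▸ z.2 : (z : ↥Cx) ∈ _)), z.1.2⟩⟩
        map_one' := rfl
        map_mul' := fun a b => rfl }
    have hinj : Function.Injective ι' := fun a b h => Subtype.ext (Subtype.ext (congrArg (fun z : ↥C => (z : MulAut (Cfsg.POmega F Q))) h))
    have hle : (Cfsg.pPrimeCore 2 ↥C).comap ι' ≤ Cfsg.pPrimeCore 2 ↥H := by
      refine Coprime.le_pPrimeCore_of_not_dvd Nat.prime_two fun h2' => Coprime.pPrimeCore_not_dvd (G := ↥C) Nat.prime_two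
        (h2'.trans ?_)
      exact Subgroup.card_dvd_of_injective ((ι'.comp (Subgroup.subtype _)).codRestrict _ fun z => z.2)
        fun a b h => Subtype.ext (hinj (congrArg Subtype.val h))
    have hξH : (⟨ξ, hCle _ ξ.2⟩ : ↥Cx) ∈ H := by rw [hH, Subgroup.mem_subgroupOf]; exact hξI
    have h1 : (⟨⟨ξ, hCle _ ξ.2⟩, hξH⟩ : ↥H) ∈ Cfsg.pPrimeCore 2 ↥H := hle (Subgroup.mem_comap.2 hξ)
    have h2' : (⟨ξ, hCle _ ξ.2⟩ : ↥Cx) ∈ M := hM ▸ Subgroup.mem_map_of_mem _ h1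
    rw [hM1, Subgroup.mem_bot] at h2'
    exact Subtype.ext (congrArg (Subtype.val : ↥Cx → MulAut (Cfsg.POmega F Q)) h2')
  refine (Subgroup.eq_bot_iff_forall _).2 fun ξ hξ => ?_
  obtain ⟨h, τ, hh, hξe⟩ : (ξ : MulAut (Cfsg.POmega F Q)) ∈ gammaSub Q := by
    rw [← gammaPOmega_eq, htop]; exact Subgroup.mem_top _
  have hcom : CommInner Q g.1 h hh := by
    intro u hu hgu hs hd'
    have hη : simHom Q ⟨u, iso_sim hu⟩ ∈ C := by
      rw [hC]; exact ⟨hInnA (inn_of_det hQ h2 hn5 hu hs hd'), hCx ▸ hcent u hu hgu⟩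
    have h1 := hXI (ξ * ⟨_, hη⟩ * ξ⁻¹ * (⟨_, hη⟩ : ↥C)⁻¹) ?_ ?_
    · have h3 : ξ * ⟨_, hη⟩ = ⟨_, hη⟩ * ξ := by
        rw [mul_inv_eq_one, mul_inv_eq_iff_eq_mul] at h1
        exact h1
      rw [← hξe]
      exact congrArg Subtype.val h3
    · rw [show ξ * ⟨_, hη⟩ * ξ⁻¹ * (⟨_, hη⟩ : ↥C)⁻¹ = ξ * (⟨_, hη⟩ * ξ⁻¹ * (⟨_, hη⟩ : ↥C)⁻¹) by group]
      exact mul_mem hξ (‹(Cfsg.pPrimeCore 2 ↥C).Normal›.conj_mem _ (inv_mem hξ) _)
    · simp only [Subgroup.coe_mul, Subgroup.coe_inv]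
      exact mul_mem (hInn.conj_mem _ (inn_of_det hQ h2 hn5 hu hs hd') _) (inv_mem (inn_of_det hQ h2 hn5 hu hs hd'))
  obtain ⟨rfl, ha⟩ := hpin h τ hh hcom
  rcases ind_one_or hQ (g := g) hn5 hh ha with e | e
  · exact Subtype.ext (hξe.trans e)
  · exfalso
    refine Coprime.pPrimeCore_not_dvd (G := ↥C) Nat.prime_two ?_
    have ho : orderOf ξ = 2 := by rw [← Subgroup.orderOf_coe, hξe.trans (e.trans hx.symm), hord]
    have h4 := orderOf_dvd_natCard (⟨ξ, hξ⟩ : ↥(Cfsg.pPrimeCore 2 ↥C))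
    rwa [Subgroup.orderOf_mk, ho] at h4

end CfsgLib.Orth.Balance
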