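import Cfsg.Agent.Lib.Orth.Balance.GraphSplit
import Cfsg.Agent.Lib.Orth.Field.MinusCls

/-!
# An involutory graph similarity without eigenvalues: the form over the quadratic extension
-/

set_option autoImplicit false
set_option linter.all false

namespace CfsgLib.Orth.Balance

open scoped Matrix
open Matrix Cfsg.Geo CfsgLib.Orth CfsgLib.Perm.Asch CfsgLib.Perm.Trans CfsgLib.Perm.Trans.Quad

universe u

variable {F : Type u} [Field F] [Fintype F] {ι : Type} [Fintype ι] [DecidableEq ι] {Q : (ι → F) → F}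

local notation "pol" => QuadraticMap.polar

/-- the form read over the quadratic extension in which `g` is a scalar -/
structure Ext (Q : (ι → F) → F) (g : GL ι F) (d : F) (k : ℕ) where
  L : Type u
  [fld : Field L]
  [fin : Fintype L]
  f : F →+* L
  ρ : L
  sq : ρ * ρ = f d
  e : (Fin k → L) ≃+ (ι → F)
  Φ : (Fin k → L) → L
  two : (2 : L) ≠ 0
  coords : ∀ ℓ : L, ∃ a b : F, ℓ = f a + f b * ρ
  unique : ∀ a b a' b' : F, f a + f b * ρ = f a' + f b' * ρ → a = a' ∧ b = b'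
  e_smul : ∀ a y, e (f a • y) = a • e y
  e_rho : ∀ y, e (ρ • y) = (g : Matrix ι ι F) *ᵥ e y
  form : ∀ y, Φ y = f (Q (e y)) + f (pol Q (e y) ((g : Matrix ι ι F) *ᵥ e y) / (2 * d)) * ρ
  nd : IsNondegenerateQuadraticForm Φ
  pol_eq : ∀ y z, pol Φ y z = f (pol Q (e y) (e z)) + f (pol Q (e y) ((g : Matrix ι ι F) *ᵥ e z) / d) * ρ

variable (hQ : IsNondegenerateQuadraticForm Q)
include hQ

theorem exists_Ext (h2 : (2 : F) ≠ 0) {k : ℕ} (hk : Fintype.card ι = k + k) {g : GL ι F} {d : F} (hds : ¬ IsSquare d)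
    (hG : ∀ v, Q ((g : Matrix ι ι F) *ᵥ v) = d * Q v)
    (hGG : (g : Matrix ι ι F) * (g : Matrix ι ι F) = d • 1) : Nonempty (Ext Q g d k) := by
  have hd0 : d ≠ 0 := fun e => hds (e ▸ IsSquare.zero)
  have hab : ∀ z₁ z₂ : F, z₁ ^ 2 + 0 * z₁ * z₂ + -d * z₂ ^ 2 = 0 → z₁ = 0 ∧ z₂ = 0 := fun z₁ z₂ h => by
    by_cases hz : z₂ = 0
    · subst hz; simpa using h
    · exact absurd ⟨z₁ / z₂, by field_simp; linear_combination -h⟩ hds
  obtain ⟨L, iL, iA, hL⟩ := FieldCls.exists_ext hab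
  haveI : Module.Finite F L := Module.finite_of_finrank_pos (by omega)
  haveI : Finite L := Module.finite_of_finite F
  letI : Fintype L := Fintype.ofFinite L
  obtain ⟨ρ, hρ⟩ := FieldCls.exists_root hab hL
  obtain ⟨f, hf⟩ : ∃ f, f = algebraMap F L := ⟨_, rfl⟩
  rw [← hf] at hρ
  have hsq : ρ * ρ = f d := by
    rw [map_zero, zero_mul, add_zero, map_neg] at hρ
    linear_combination hρ
  have hli : LinearIndependent F ![(1 : L), ρ] := by
    refine (LinearIndependent.pair_iff' one_ne_zero).2 fun a ha => hds ⟨a, ?_⟩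
    rw [Algebra.smul_def, mul_one, ← hf] at ha
    exact f.injective (by rw [map_mul, ha, hsq])
  obtain ⟨β, hβ⟩ : ∃ β : Module.Basis (Fin 2) F L, (β : Fin 2 → L) = ![(1 : L), ρ] :=
    ⟨basisOfLinearIndependentOfCardEqFinrank hli (by rw [hL, Fintype.card_fin]),
      coe_basisOfLinearIndependentOfCardEqFinrank _ _⟩
  have hrepr : ∀ ℓ : L, ℓ = f (β.repr ℓ 0) + f (β.repr ℓ 1) * ρ := fun ℓ => by
    conv_lhs => rw [← β.sum_repr ℓ]
    rw [Fin.sum_univ_two, hβ, Matrix.cons_val_zero, Matrix.cons_val_one, Algebra.smul_def, Algebra.smul_def, mul_one, hf]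
    rfl
  have huniq : ∀ a b a' b' : F, f a + f b * ρ = f a' + f b' * ρ → a = a' ∧ b = b' := fun a b a' b' h => by
    have h0 : (a - a') • (1 : L) + (b - b') • ρ = 0 := by
      rw [Algebra.smul_def, Algebra.smul_def, ← hf, mul_one, map_sub, map_sub]
      linear_combination h
    obtain ⟨e1, e2⟩ := LinearIndependent.pair_iff.1 hli _ _ h0
    exact ⟨sub_eq_zero.1 e1, sub_eq_zero.1 e2⟩
  obtain ⟨A, hA⟩ : ∃ A : L →ₗ[F] F, ∀ ℓ, A ℓ = β.repr ℓ 0 := ⟨β.coord 0, fun ℓ => rfl⟩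
  obtain ⟨B, hB⟩ : ∃ B : L →ₗ[F] F, ∀ ℓ, B ℓ = β.repr ℓ 1 := ⟨β.coord 1, fun ℓ => rfl⟩
  have hAB : ∀ a b : F, A (f a + f b * ρ) = a ∧ B (f a + f b * ρ) = b := fun a b => by
    have h := huniq _ _ _ _ (hrepr (f a + f b * ρ))
    rw [hA, hB]
    exact ⟨h.1.symm, h.2.symm⟩
  have hA1 : A 1 = 1 ∧ B 1 = 0 := by
    have := hAB 1 0
    rwa [map_one, map_zero, zero_mul, add_zero] at this
  have hmul : ∀ x y : L, A (x * y) = A x * A y + d * (B x * B y) ∧ B (x * y) = A x * B y + B x * A y := fun x y => by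
    have e : x * y = f (A x * A y + d * (B x * B y)) + f (A x * B y + B x * A y) * ρ := by
      conv_lhs => rw [hrepr x, hrepr y]
      rw [← hA, ← hA, ← hB, ← hB]
      simp only [map_add, map_mul]
      linear_combination f (B x) * f (B y) * hsq
    rw [e]
    exact hAB _ _
  obtain ⟨G, hGd⟩ : ∃ G : Module.End F (ι → F), G = Matrix.mulVecLin (g : Matrix ι ι F) := ⟨_, rfl⟩
  have hGG' : ∀ x, G (G x) = d • x := fun x => by
    rw [hGd, Matrix.mulVecLin_apply, Matrix.mulVecLin_apply, mulVec_mulVec, hGG, smul_mulVec, one_mulVec]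
  let φ : L →+* Module.End F (ι → F) :=
    { toFun := fun ℓ => A ℓ • (1 : Module.End F (ι → F)) + B ℓ • G
      map_one' := by rw [hA1.1, hA1.2, one_smul, zero_smul, add_zero]
      map_zero' := by simp
      map_add' := fun x y => by simp only [map_add, add_smul]; abel
      map_mul' := fun x y => LinearMap.ext fun v => by
        simp only [Module.End.mul_apply, LinearMap.add_apply, LinearMap.smul_apply, Module.End.one_apply, map_add,
          map_smul, hGG', (hmul x y).1, (hmul x y).2]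
        module }
  letI iM : Module L (ι → F) := Module.compHom (ι → F) φ
  have hsmul : ∀ (ℓ : L) (x : ι → F), ℓ • x = A ℓ • x + B ℓ • ((g : Matrix ι ι F) *ᵥ x) := fun ℓ x => by
    show φ ℓ x = _
    show A ℓ • x + B ℓ • G x = _
    rw [hGd, Matrix.mulVecLin_apply]
  haveI : IsScalarTower F L (ι → F) := ⟨fun a ℓ x => by
    rw [hsmul, hsmul, map_smul, map_smul, smul_add, smul_smul, smul_smul, smul_eq_mul, smul_eq_mul]⟩
  haveI : Module.Finite L (ι → F) := Module.Finite.of_restrictScalars_finite F L (ι → F)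
  have hfr : Module.finrank L (ι → F) = k := by
    have h1 := Module.finrank_mul_finrank F L (ι → F)
    rw [hL, Module.finrank_fintype_fun_eq_card, hk] at h1
    omega
  obtain ⟨e, -⟩ : ∃ e : (Fin k → L) ≃ₗ[L] (ι → F), True :=
    ⟨(Module.finBasisOfFinrankEq L (ι → F) hfr).equivFun.symm, trivial⟩
  have hes : ∀ (ℓ : L) y, e (ℓ • y) = A ℓ • e y + B ℓ • ((g : Matrix ι ι F) *ᵥ e y) := fun ℓ y => by
    rw [map_smul, hsmul]
  have hea : ∀ a y, e (f a • y) = a • e y := fun a y => by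
    have h := hAB a 0
    rw [map_zero, zero_mul, add_zero] at h
    rw [hes, h.1, h.2, zero_smul, add_zero]
  have her : ∀ y, e (ρ • y) = (g : Matrix ι ι F) *ᵥ e y := fun y => by
    have h := hAB 0 1
    rw [map_zero, map_one, one_mul, zero_add] at h
    rw [hes, h.1, h.2, zero_smul, zero_add, one_smul]
  have hgg : ∀ x, (g : Matrix ι ι F) *ᵥ ((g : Matrix ι ι F) *ᵥ x) = d • x := fun x => by
    rw [mulVec_mulVec, hGG, smul_mulVec, one_mulVec]
  have hgp : ∀ x y, pol Q ((g : Matrix ι ι F) *ᵥ x) ((g : Matrix ι ι F) *ᵥ y) = d * pol Q x y := fun x y => by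
    simp only [QuadraticMap.polar, ← mulVec_add, hG]; ring
  have hsym : ∀ x y, pol Q ((g : Matrix ι ι F) *ᵥ x) y = pol Q x ((g : Matrix ι ι F) *ᵥ y) := fun x y => by
    refine mul_left_cancel₀ hd0 ?_
    rw [← psmul_right hQ, ← hgg, hgp]
  obtain ⟨Φ, hΦ⟩ : ∃ Φ : (Fin k → L) → L,
      ∀ y, Φ y = f (Q (e y)) + f (pol Q (e y) ((g : Matrix ι ι F) *ᵥ e y) / (2 * d)) * ρ := ⟨_, fun y => rfl⟩
  have hpe : ∀ y z, pol Φ y z = f (pol Q (e y) (e z)) + f (pol Q (e y) ((g : Matrix ι ι F) *ᵥ e z) / d) * ρ := fun y z => by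
    have e1 : pol Q (e z) ((g : Matrix ι ι F) *ᵥ e y) = pol Q (e y) ((g : Matrix ι ι F) *ᵥ e z) := by rw [pcomm, hsym]
    have h2d : (2 * d) ≠ 0 := mul_ne_zero h2 hd0
    rw [QuadraticMap.polar, hΦ, hΦ, hΦ, map_add, qadd hQ, mulVec_add, padd_left hQ, padd_right hQ, padd_right hQ, e1]
    rw [show (pol Q (e y) ((g : Matrix ι ι F) *ᵥ e y) + pol Q (e y) ((g : Matrix ι ι F) *ᵥ e z) +
        (pol Q (e y) ((g : Matrix ι ι F) *ᵥ e z) + pol Q (e z) ((g : Matrix ι ι F) *ᵥ e z))) / (2 * d) =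
        pol Q (e y) ((g : Matrix ι ι F) *ᵥ e y) / (2 * d) + pol Q (e z) ((g : Matrix ι ι F) *ᵥ e z) / (2 * d) +
          pol Q (e y) ((g : Matrix ι ι F) *ᵥ e z) / d by field_simp; ring]
    simp only [map_add]
    ring
  have hsl : ∀ (ℓ : L) y z, pol Φ (ℓ • y) z = ℓ * pol Φ y z := fun ℓ y z => by
    rw [hpe, hpe, hes, padd_left hQ, padd_left hQ, psmul_left hQ, psmul_left hQ, psmul_left hQ, psmul_left hQ, hgp, hsym]
    conv_rhs => rw [hrepr ℓ, ← hA, ← hB]
    rw [show (A ℓ * pol Q (e y) ((g : Matrix ι ι F) *ᵥ e z) + B ℓ * (d * pol Q (e y) (e z))) / d =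
      A ℓ * (pol Q (e y) ((g : Matrix ι ι F) *ᵥ e z) / d) + B ℓ * pol Q (e y) (e z) by field_simp]
    have e2 : f (B ℓ * pol Q (e y) ((g : Matrix ι ι F) *ᵥ e z)) =
        ρ * ρ * (f (B ℓ) * f (pol Q (e y) ((g : Matrix ι ι F) *ᵥ e z) / d)) := by
      rw [hsq, ← map_mul, ← map_mul]; congr 1; field_simp
    simp only [map_add]
    rw [e2]
    simp only [map_mul]
    ring
  have h2L : (2 : L) ≠ 0 := fun h => h2 (f.injective (by rw [map_ofNat, h, map_zero]))
  have hal : ∀ y y' z, pol Φ (y + y') z = pol Φ y z + pol Φ y' z := fun y y' z => by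
    rw [hpe, hpe, hpe, map_add, padd_left hQ, padd_left hQ, add_div, map_add, map_add]; ring
  have hself : ∀ y, pol Φ y y = 2 * Φ y := fun y => by
    rw [hpe, hΦ, pself hQ, mul_add, map_mul, map_ofNat, ← mul_assoc (2 : L), ← map_ofNat f 2, ← map_mul]
    congr 3
    field_simp
    rw [← map_mul]
    congr 1
    field_simp
  have hco : ∀ y z, pol Φ y z = pol Φ z y := fun y z => QuadraticMap.polar_comm Φ y z
  refine ⟨⟨L, f, ρ, hsq, e.toAddEquiv, Φ, h2L, fun ℓ => ⟨_, _, hrepr ℓ⟩, huniq, hea, her, hΦ, ⟨?_, ?_, ?_⟩, hpe⟩⟩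
  · intro ℓ y
    refine mul_left_cancel₀ h2L ?_
    rw [← hself, hsl, hco, hsl, hself]
    ring
  · constructor
    · exact hal
    · exact hsl
    · intro x y z; rw [hco, hal, hco y x, hco z x]
    · intro c x y; rw [hco, hsl, hco y x]
  · intro y hy
    obtain ⟨⟨x, hx⟩, -⟩ := hQ.nondegenerate (e y) (fun h => hy (e.injective (h.trans (map_zero e).symm)))
    obtain ⟨z, rfl⟩ := e.surjective x
    have hne : pol Φ z y ≠ 0 := by
      rw [hpe]
      intro h
      exact hx (huniq _ _ 0 0 (by rw [h, map_zero, zero_mul, add_zero])).1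
    exact ⟨⟨z, hne⟩, ⟨z, by rwa [hco]⟩⟩

variable {g : GL ι F} {d : F} {k : ℕ}

/-- the two facts in the non-split case -/
theorem nonsq_case (h2 : (2 : F) ≠ 0) (hn : 8 ≤ Fintype.card ι) (hk : Fintype.card ι = k + k) {c : F}
    (hG : ∀ v, Q ((g : Matrix ι ι F) *ᵥ v) = c * Q v) (hGG : (g : Matrix ι ι F) * (g : Matrix ι ι F) = d • 1)
    (hds : ¬ IsSquare d) (hcd : c = d ∨ c = -d) (hsign : (g : Matrix ι ι F).det ≠ c ^ k) :
    (∀ Y : Subgroup (GL ι F), Y ≤ commIso Q g → (-1 : GL ι F) ∈ Y →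
      (∀ u ∈ commIso Q g, ∀ y ∈ Y, u * y * u⁻¹ ∈ Y) → (∀ N : ℕ, Odd N → (∀ y ∈ Y, y ^ N = 1 ∨ y ^ N = -1) →
      ∀ u ∈ Y, ∃ a : F, (u : Matrix ι ι F) = a • 1 ∨ (u : Matrix ι ι F) = a • (g : Matrix ι ι F))) ∧
    ∀ (h : GL ι F) (τ : F ≃+* F) (hh : Cfsg.IsSemisimilarityPair Q h τ), CommInner Q g h hh →
      τ = RingEquiv.refl F ∧ ∃ a : F, (h : Matrix ι ι F) = a • 1 ∨ (h : Matrix ι ι F) = a • (g : Matrix ι ι F) := by
  have hdet := det_of_sq_nonsquare hds hGG hk
  have hcd' : c = d := by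
    rcases hcd with h | h
    · exact h
    · exact absurd (by rw [hdet, h]) hsign
  subst hcd'
  have hkodd : Odd k := by
    by_contra he
    exact hsign (by rw [hdet, (Nat.not_odd_iff_even.1 he).neg_pow])
  have hk5 : 5 ≤ k := by obtain ⟨j, hj⟩ := hkodd; omega
  have hd0 : c ≠ 0 := fun e => hds (e ▸ IsSquare.zero)
  obtain ⟨E⟩ := exists_Ext hQ h2 hk hds hG hGG
  letI := E.fld
  letI := E.fin
  have hgg : ∀ x, (g : Matrix ι ι F) *ᵥ ((g : Matrix ι ι F) *ᵥ x) = c • x := fun x => by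
    rw [mulVec_mulVec, hGG, smul_mulVec, one_mulVec]
  have hgp : ∀ x y, pol Q ((g : Matrix ι ι F) *ᵥ x) ((g : Matrix ι ι F) *ᵥ y) = c * pol Q x y := fun x y => by
    simp only [QuadraticMap.polar, ← mulVec_add, hG]; ring
  have hsym : ∀ x y, pol Q ((g : Matrix ι ι F) *ᵥ x) y = pol Q x ((g : Matrix ι ι F) *ᵥ y) := fun x y => by
    refine mul_left_cancel₀ hd0 ?_
    rw [← psmul_right hQ, ← hgg, hgp]
  have hes : ∀ a b y, E.e ((E.f a + E.f b * E.ρ) • y) = a • E.e y + b • ((g : Matrix ι ι F) *ᵥ E.e y) := fun a b y => by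
    rw [add_smul, map_add, mul_smul, E.e_smul, E.e_smul, E.e_rho]
  have hcrd : ∀ y z, E.e y = E.e z → y = z := fun y z h => E.e.injective h
  constructor
  · intro Y hYL hneg hnorm N hN hpow u hu
    obtain ⟨ε, -, h⟩ := rep_sign (ι := ι) (F := F) E.nd E.two (by rw [Fintype.card_fin]; exact hkodd)
      E.e.toAddMonoidHom E.e.injective (commIso Q g) Y hYL hneg hnorm (fun w hw => by
        obtain ⟨hwi, hwg⟩ := mem_commIso.1 hw
        have hwg' : ∀ x, (g : Matrix ι ι F) *ᵥ ((w : Matrix ι ι F) *ᵥ x) = (w : Matrix ι ι F) *ᵥ ((g : Matrix ι ι F) *ᵥ x) :=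
          fun x => by rw [← gl_mul_mulVec, hwg, gl_mul_mulVec]
        obtain ⟨T, hT⟩ : ∃ T : (Fin k → E.L) →ₗ[E.L] (Fin k → E.L), ∀ y, E.e (T y) = (w : Matrix ι ι F) *ᵥ E.e y := by
          refine ⟨{ toFun := fun y => E.e.symm ((w : Matrix ι ι F) *ᵥ E.e y)
                    map_add' := fun y z => by rw [map_add, mulVec_add, map_add]
                    map_smul' := fun ℓ y => ?_ }, fun y => E.e.apply_symm_apply _⟩
          obtain ⟨a, b, rfl⟩ := E.coords ℓ
          refine E.e.injective ?_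
          rw [E.e.apply_symm_apply, RingHom.id_apply, hes, hes, E.e.apply_symm_apply, mulVec_add, mulVec_smul,
            mulVec_smul, hwg']
        have hTinj : Function.Injective (LinearMap.toMatrix' T).mulVec := fun y z h => by
          rw [← Matrix.toLin'_apply, ← Matrix.toLin'_apply, Matrix.toLin'_toMatrix'] at h
          have h' := congrArg E.e h
          rw [hT, hT] at h'
          refine hcrd _ _ ?_
          rw [← gl_inv_mulVec w (E.e y), h', gl_inv_mulVec]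
        obtain ⟨U, hU⟩ : ∃ U : GL (Fin k) E.L, (U : Matrix (Fin k) (Fin k) E.L) = LinearMap.toMatrix' T :=
          ⟨(Matrix.mulVec_injective_iff_isUnit.1 hTinj).unit, IsUnit.unit_spec _⟩
        have hUe : ∀ y, E.e ((U : Matrix (Fin k) (Fin k) E.L) *ᵥ y) = (w : Matrix ι ι F) *ᵥ E.e y := fun y => by
          rw [hU, ← Matrix.toLin'_apply, Matrix.toLin'_toMatrix', hT]
        exact ⟨U, mem_iso.2 fun y => by rw [E.form, E.form, hUe, hwg', mem_iso.1 hwi, iso_pol hwi], hUe⟩)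
      (fun U hU => by
        obtain ⟨χ, hχ⟩ : ∃ χ : (ι → F) →ₗ[F] (ι → F),
            ∀ y, χ (E.e y) = E.e ((U : Matrix (Fin k) (Fin k) E.L) *ᵥ y) := by
          refine ⟨{ toFun := fun x => E.e ((U : Matrix (Fin k) (Fin k) E.L) *ᵥ E.e.symm x)
                    map_add' := fun x y => by rw [map_add, mulVec_add, map_add]
                    map_smul' := fun a x => ?_ }, fun y => by simp⟩
          obtain ⟨y, rfl⟩ := E.e.surjective x
          rw [RingHom.id_apply, ← E.e_smul, E.e.symm_apply_apply, E.e.symm_apply_apply, mulVec_smul, E.e_smul]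
        have hχQ : ∀ x, Q (χ x) = Q x := fun x => by
          obtain ⟨y, rfl⟩ := E.e.surjective x
          have h := mem_iso.1 hU y
          rw [E.form, E.form] at h
          rw [hχ]
          exact (E.unique _ _ _ _ h).1
        have hχinj : Function.Injective (LinearMap.toMatrix' χ).mulVec := fun x z h => by
          rw [← Matrix.toLin'_apply, ← Matrix.toLin'_apply, Matrix.toLin'_toMatrix'] at h
          obtain ⟨x, rfl⟩ := E.e.surjective x
          obtain ⟨z, rfl⟩ := E.e.surjective z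
          rw [hχ, hχ] at h
          rw [← gl_inv_mulVec U x, hcrd _ _ h, gl_inv_mulVec]
        obtain ⟨w, hw⟩ : ∃ w : GL ι F, (w : Matrix ι ι F) = LinearMap.toMatrix' χ :=
          ⟨(Matrix.mulVec_injective_iff_isUnit.1 hχinj).unit, IsUnit.unit_spec _⟩
        have hwx : ∀ x, (w : Matrix ι ι F) *ᵥ x = χ x := fun x => by
          rw [hw, ← Matrix.toLin'_apply, Matrix.toLin'_toMatrix']
        refine ⟨w, mem_commIso.2 ⟨mem_iso.2 fun x => by rw [hwx, hχQ], gl_ext_vec fun x => ?_⟩, fun y => ?_⟩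
        · obtain ⟨y, rfl⟩ := E.e.surjective x
          rw [gl_mul_mulVec, gl_mul_mulVec, hwx, hwx, hχ, ← E.e_rho, ← E.e_rho, hχ, mulVec_smul]
        · show E.e _ = _
          rw [hwx]
          exact (hχ y).symm) hN hpow u hu
    refine ⟨ε, Or.inl (Matrix.ext_iff_mulVec.2 fun x => ?_)⟩
    obtain ⟨y, rfl⟩ := E.e.surjective x
    rw [smul_mulVec, one_mulVec]
    exact h y
  intro h τ hh hc
  obtain ⟨S, hS⟩ : ∃ S : (Fin k → E.L) → (Fin k → E.L),
      ∀ y, E.e (S y) = (h : Matrix ι ι F) *ᵥ fun l => τ (E.e y l) :=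
    ⟨fun y => E.e.symm ((h : Matrix ι ι F) *ᵥ fun l => τ (E.e y l)), fun y => E.e.apply_symm_apply _⟩
  have hSadd : ∀ y z, S (y + z) = S y + S z := fun y z => hcrd _ _ (by
    rw [map_add E.e (S y), hS, hS, hS, ← mulVec_add]; congr 1; funext l; simp)
  obtain ⟨Φ, hΦ⟩ : ∃ Φ, Φ = E.Φ := ⟨_, rfl⟩
  have hnd : IsNondegenerateQuadraticForm Φ := hΦ ▸ E.nd
  -- vectors of norm one and an orthogonal partner
  have hplane : ∀ v w, Φ v = 1 → Φ w = 1 → pol Φ v w = 0 → ∃ a b : E.L, S v = a • v + b • w := by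
    intro v w hv hw hvw
    have hval : ∀ y, Φ y = 1 → Q (E.e y) = 1 ∧ pol Q (E.e y) ((g : Matrix ι ι F) *ᵥ E.e y) = 0 := fun y hy => by
      obtain ⟨e1, e2⟩ := E.unique _ _ 1 0 (by rw [← E.form y, ← hΦ, hy, map_one, map_zero, zero_mul, add_zero])
      exact ⟨e1, (div_eq_zero_iff.1 e2).resolve_right (mul_ne_zero h2 hd0)⟩
    obtain ⟨hQv, hpv⟩ := hval v hv
    obtain ⟨hQw, hpw⟩ := hval w hw
    obtain ⟨hp0, hp1'⟩ := E.unique _ _ 0 0 (by rw [← E.pol_eq v w, ← hΦ, hvw, map_zero, zero_mul, add_zero])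
    have hp1 := (div_eq_zero_iff.1 hp1').resolve_right hd0
    obtain ⟨X, hX⟩ : ∃ X, X = E.e v := ⟨_, rfl⟩
    obtain ⟨Z, hZ⟩ : ∃ Z, Z = E.e w := ⟨_, rfl⟩
    rw [← hX] at hQv hpv hp0 hp1
    rw [← hZ] at hQw hpw hp0 hp1
    obtain ⟨fam, hfam⟩ : ∃ fam : Fin 4 → ι → F,
        fam = ![X, (g : Matrix ι ι F) *ᵥ X, Z, (g : Matrix ι ι F) *ᵥ Z] := ⟨_, rfl⟩
    have horth : ∀ i j, i ≠ j → pol Q (fam i) (fam j) = 0 := by
      have hc' : ∀ a b, pol Q a b = 0 → pol Q b a = 0 := fun a b h => by rw [pcomm]; exact h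
      have k1 : pol Q ((g : Matrix ι ι F) *ᵥ X) Z = 0 := by rw [hsym, hp1]
      have k2 : pol Q ((g : Matrix ι ι F) *ᵥ X) ((g : Matrix ι ι F) *ᵥ Z) = 0 := by rw [hgp, hp0, mul_zero]
      intro i j hij
      rw [hfam]
      fin_cases i <;> fin_cases j
      all_goals first
        | exact absurd rfl hij
        | exact hpv
        | exact hp0
        | exact hp1
        | exact k1
        | exact k2
        | exact hpw
        | exact hc' _ _ hpv
        | exact hc' _ _ hp0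
        | exact hc' _ _ hp1
        | exact hc' _ _ k1
        | exact hc' _ _ k2
        | exact hc' _ _ hpw
    have han : ∀ i, Q (fam i) ≠ 0 := by
      intro i
      rw [hfam]
      fin_cases i
      · show Q X ≠ 0; rw [hQv]; exact one_ne_zero
      · show Q ((g : Matrix ι ι F) *ᵥ X) ≠ 0; rw [hG, hQv, mul_one]; exact hd0
      · show Q Z ≠ 0; rw [hQw]; exact one_ne_zero
      · show Q ((g : Matrix ι ι F) *ᵥ Z) ≠ 0; rw [hG, hQw, mul_one]; exact hd0
    obtain ⟨u, hu, hud, hus, huf⟩ := exists_orefl hQ h2 (by omega) 4 fam horth han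
    have hgu : g * u = u * g := gl_ext_vec fun x => by
      rw [gl_mul_mulVec, gl_mul_mulVec, huf, huf, mulVec_sub, Fin.sum_univ_four, Fin.sum_univ_four, hfam]
      simp only [Matrix.cons_val_zero, Matrix.cons_val_one, Matrix.cons_val, mulVec_add, mulVec_smul, hgg, hgp,
        hG, hQv, hQw, mul_one, inv_one, one_mul, smul_smul]
      rw [hsym x X, hsym x Z]
      field_simp
      module
    have hspn : spn Q u = 1 := by
      rw [hus, Fin.prod_univ_four, hfam]
      show sqc (Q X * Q ((g : Matrix ι ι F) *ᵥ X) * Q Z * Q ((g : Matrix ι ι F) *ᵥ Z)) = 1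
      rw [hG, hG, hQv, hQw]
      exact (sqc_eq_one_iff (by simp [hd0])).2 ⟨c, by ring⟩
    obtain ⟨a, ha⟩ := neg_span hQ h2 (by omega) (by omega) horth han hu huf hh
      (hc u hu hgu hspn (by rw [hud]; norm_num)) 0
    refine ⟨E.f (a 0) + E.f (a 1) * E.ρ, E.f (a 2) + E.f (a 3) * E.ρ, hcrd _ _ ?_⟩
    rw [Fin.sum_univ_four, hfam] at ha
    simp only [Matrix.cons_val_zero, Matrix.cons_val_one, Matrix.cons_val] at ha
    rw [map_add, hes, hes, hS, ← hX, ← hZ, ha]
    abel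
  have hperp : ∀ y, y ≠ 0 → ∃ U : Submodule E.L (Fin k → E.L),
      NdOn Φ U ∧ 3 ≤ Module.finrank E.L U ∧ y ∉ U ∧ ∀ w ∈ U, pol Φ y w = 0 := by
    intro y hy
    by_cases hQy : Φ y = 0
    · obtain ⟨z, -, hz, hyz⟩ := exists_qpartner hnd (ndOn_top hnd) Submodule.mem_top hy hQy
      have hfr := pair_finrank hnd (P := ⊤) Submodule.mem_top Submodule.mem_top hQy hz hyz
      rw [finrank_top, Module.finrank_fintype_fun_eq_card, Fintype.card_fin] at hfr
      refine ⟨_, pair_nd hnd Submodule.mem_top Submodule.mem_top hQy hz hyz (ndOn_top hnd), by omega, fun hmem => ?_,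
        fun w hw => by rw [pcomm]; exact ((mem_pairPerp hnd).1 hw).2.1⟩
      exact one_ne_zero (hyz.symm.trans ((mem_pairPerp hnd).1 hmem).2.2)
    · refine ⟨qperp hnd (Submodule.span E.L {y}), ?_, ?_, fun hmem => ?_, fun w hw => ?_⟩
      · intro w hw hw0
        have hwy : pol Φ w y = 0 := hw y (Submodule.mem_span_singleton_self y)
        obtain ⟨-, x, hx⟩ := hnd.nondegenerate w hw0
        obtain ⟨x', hx'⟩ : ∃ x', x' = x - (pol Φ x y / (2 * Φ y)) • y := ⟨_, rfl⟩
        have hm : x' ∈ qperp hnd (Submodule.span E.L {y}) := (mem_qperp_span hnd).2 (by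
          intro z hz
          rw [Set.mem_singleton_iff.1 hz, hx', psub_left hnd, psmul_left hnd, pself hnd,
            div_mul_cancel₀ _ (mul_ne_zero E.two hQy), sub_self])
        have e1 : pol Φ w x' = pol Φ w x := by rw [hx', psub_right hnd, psmul_right hnd, hwy, mul_zero, sub_zero]
        exact ⟨⟨x', hm, by rw [pcomm, e1]; exact hx⟩, ⟨x', hm, by rw [e1]; exact hx⟩⟩
      · have h1 := finrank_qperp hnd (Submodule.span E.L {y})
        rw [finrank_span_singleton hy, Fintype.card_fin] at h1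
        omega
      · have h1 : pol Φ y y = 0 := hmem y (Submodule.mem_span_singleton_self y)
        rw [pself hnd] at h1
        exact hQy ((mul_eq_zero.1 h1).resolve_left E.two)
      · rw [pcomm]; exact hw y (Submodule.mem_span_singleton_self y)
  have hone : ∀ v, Φ v = 1 → ∃ α : E.L, S v = α • v := by
    intro v hv
    obtain ⟨U, hUn, hUd, hvU, hUp⟩ := hperp v (fun e => zero_ne_one (by rw [← hv, e, qzero hnd]))
    obtain ⟨w, hw, w', hw', hQw, hQw', hli⟩ := two_values hnd hUn hUd 1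
    exact mem_line hvU hw hw' hli (hplane v w hv hQw (hUp w hw)) (hplane v w' hv hQw' (hUp w' hw'))
  have hall : ∀ y, ∃ α : E.L, S y = α • y := by
    intro y
    rcases eq_or_ne y 0 with rfl | hy
    · refine ⟨0, ?_⟩
      rw [zero_smul]
      have := hSadd 0 0
      rw [add_zero] at this
      exact left_eq_add.1 this
    obtain ⟨U, hUn, hUd, hyU, hUp⟩ := hperp y hy
    obtain ⟨w, hw, w', hw', hQw, hQw', hli⟩ := two_values hnd hUn hUd (1 - Φ y / 4)
    have hpl : ∀ z ∈ U, Φ z = 1 - Φ y / 4 → ∃ a b : E.L, S y = a • y + b • z := by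
      intro z hz hQz
      obtain ⟨α, hα⟩ := hone ((2 : E.L)⁻¹ • y + z) (by
        rw [qadd hnd, qsmul hnd, psmul_left hnd, hUp z hz, hQz, mul_zero, add_zero]
        have := E.two
        have h4 : (4 : E.L) ≠ 0 := by rw [show (4 : E.L) = 2 * 2 by norm_num]; exact mul_ne_zero this this
        field_simp; ring)
      obtain ⟨β, hβ⟩ := hone ((2 : E.L)⁻¹ • y - z) (by
        rw [qsub hnd, qsmul hnd, psmul_left hnd, hUp z hz, hQz, mul_zero, sub_zero]
        have := E.two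
        have h4 : (4 : E.L) ≠ 0 := by rw [show (4 : E.L) = 2 * 2 by norm_num]; exact mul_ne_zero this this
        field_simp; ring)
      refine ⟨2⁻¹ * (α + β), α - β, ?_⟩
      have e1 : S y = S ((2 : E.L)⁻¹ • y + z) + S ((2 : E.L)⁻¹ • y - z) := by
        rw [← hSadd]; congr 1
        rw [show (2 : E.L)⁻¹ • y + z + ((2 : E.L)⁻¹ • y - z) = ((2 : E.L)⁻¹ + (2 : E.L)⁻¹) • y by module,
          show (2 : E.L)⁻¹ + (2 : E.L)⁻¹ = 1 by rw [← two_mul, mul_inv_cancel₀ E.two], one_smul]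
      rw [e1, hα, hβ]
      module
    exact mem_line hyU hw hw' hli (hpl w hw hQw) (hpl w' hw' hQw')
  obtain ⟨α, hα⟩ := eigen_scalar S hSadd (P := (⊤ : Submodule E.L (Fin k → E.L)))
    (by rw [finrank_top, Module.finrank_fintype_fun_eq_card, Fintype.card_fin]; omega) fun y _ => hall y
  obtain ⟨v0, -, hv0⟩ := exists_qvalue hnd (ndOn_top hnd)
    (by rw [finrank_top, Module.finrank_fintype_fun_eq_card, Fintype.card_fin]; omega) 1
  have hv00 : v0 ≠ 0 := fun e => zero_ne_one (by rw [← hv0, e, qzero hnd])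
  have hα0 : α ≠ 0 := fun e => by
    have h1 := hα v0 Submodule.mem_top
    rw [e, zero_smul] at h1
    have h3 : (h : Matrix ι ι F) *ᵥ (fun l => τ (E.e v0 l)) = 0 := by rw [← hS, h1, map_zero]
    have h4 := gl_inv_mulVec h fun l => τ (E.e v0 l)
    rw [h3, mulVec_zero] at h4
    exact hv00 (hcrd _ _ (by
      rw [map_zero]; exact funext fun l => (map_eq_zero_iff τ τ.injective).1 (congrFun h4.symm l)))
  have hτ : τ = RingEquiv.refl F := RingEquiv.ext fun a => by
    have e1 : S (E.f a • v0) = E.f (τ a) • S v0 := hcrd _ _ (by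
      rw [hS, E.e_smul, E.e_smul, hS, ← mulVec_smul]; congr 1; funext l; simp)
    rw [hα _ Submodule.mem_top, hα v0 Submodule.mem_top, smul_smul, smul_smul] at e1
    have e2 : (α * E.f a - E.f (τ a) * α) • v0 = 0 := by rw [sub_smul, e1, sub_self]
    show τ a = a
    exact (E.f.injective (mul_left_cancel₀ hα0 (by linear_combination (smul_eq_zero.1 e2).resolve_right hv00))).symm
  subst hτ
  refine ⟨rfl, ?_⟩
  obtain ⟨A, B, hAB⟩ := E.coords α
  have hx : ∀ x, (h : Matrix ι ι F) *ᵥ x = A • x + B • ((g : Matrix ι ι F) *ᵥ x) := fun x => by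
    obtain ⟨y, rfl⟩ := E.e.surjective x
    rw [← hes, ← hAB, ← hα y Submodule.mem_top, hS]
    rfl
  obtain ⟨e, he⟩ := hh
  have he' : ∀ v, Q ((h : Matrix ι ι F) *ᵥ v) = (e : F) * Q v := fun v => he v
  obtain ⟨hQ0, hP0⟩ := E.unique _ _ 1 0 (by rw [← E.form v0, ← hΦ, hv0, map_one, map_zero, zero_mul, add_zero])
  have hP0' := (div_eq_zero_iff.1 hP0).resolve_right (mul_ne_zero h2 hd0)
  obtain ⟨X, hX⟩ : ∃ X, X = E.e v0 := ⟨_, rfl⟩
  rw [← hX] at hQ0 hP0'
  have h5 : pol Q ((h : Matrix ι ι F) *ᵥ X) ((h : Matrix ι ι F) *ᵥ ((g : Matrix ι ι F) *ᵥ X)) = 0 := by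
    have : ∀ x y, pol Q ((h : Matrix ι ι F) *ᵥ x) ((h : Matrix ι ι F) *ᵥ y) = (e : F) * pol Q x y := fun x y => by
      simp only [QuadraticMap.polar, ← mulVec_add, he']; ring
    rw [this, hP0', mul_zero]
  rw [hx, hx, hgg] at h5
  simp only [padd_left hQ, padd_right hQ, psmul_left hQ, psmul_right hQ, pcomm ((g : Matrix ι ι F) *ᵥ X) X, hP0',
    pself hQ, hG, hQ0] at h5
  have h6 : A * B = 0 := mul_left_cancel₀ (mul_ne_zero (mul_ne_zero h2 h2) hd0) (by linear_combination h5)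
  rcases mul_eq_zero.1 h6 with e | e
  · exact ⟨B, Or.inr (Matrix.ext_iff_mulVec.2 fun x => by rw [hx, e, zero_smul, zero_add, smul_mulVec])⟩
  · exact ⟨A, Or.inl (Matrix.ext_iff_mulVec.2 fun x => by rw [hx, e, zero_smul, add_zero, smul_mulVec, one_mulVec])⟩

end CfsgLib.Orth.Balance
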