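import Cfsg.Agent.Lib.Orth.Balance.Rep
import Cfsg.Agent.Lib.Orth.GraphInvol

/-!
# An involutory graph similarity with eigenspaces
-/

set_option autoImplicit false
set_option linter.all false

namespace CfsgLib.Orth.Balance

open scoped Matrix
open Matrix Cfsg.Geo CfsgLib.Orth CfsgLib.Perm.Asch CfsgLib.Perm.Trans CfsgLib.Perm.Trans.Quad

variable {F : Type*} [Field F] [Fintype F] {ι : Type} [Fintype ι] [DecidableEq ι] {Q : (ι → F) → F}

local notation "pol" => QuadraticMap.polar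

/-- the isometries commuting with `g` -/
def commIso (Q : (ι → F) → F) (g : GL ι F) : Subgroup (GL ι F) :=
  Cfsg.isometryGroup F Q ⊓ Subgroup.centralizer {g}

omit [Fintype F] in
theorem mem_commIso {g u : GL ι F} : u ∈ commIso Q g ↔ u ∈ Cfsg.isometryGroup F Q ∧ g * u = u * g := by
  rw [commIso, Subgroup.mem_inf, Subgroup.mem_centralizer_singleton_iff]
  exact and_congr_right fun _ => ⟨fun h => h.symm, fun h => h.symm⟩

/-- `h τ` commutes with the inner automorphisms commuting with `g` -/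
def CommInner (Q : (ι → F) → F) (g h : GL ι F) {τ : F ≃+* F} (hh : Cfsg.IsSemisimilarityPair Q h τ) : Prop :=
  ∀ u : GL ι F, ∀ hu : u ∈ Cfsg.isometryGroup F Q, g * u = u * g → spn Q u = 1 → (u : Matrix ι ι F).det = 1 →
    ind hh * simHom Q ⟨u, iso_sim hu⟩ = simHom Q ⟨u, iso_sim hu⟩ * ind hh

/-- an eigenspace of `g` with its complement -/
structure Side (Q : (ι → F) → F) (g : GL ι F) (W W' : Submodule F (ι → F)) (s : F) : Prop where
  s0 : s ≠ 0
  two : (2 : F) ≠ 0
  nd : NdOn Q W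
  nd' : NdOn Q W'
  compl : IsCompl W W'
  perp : ∀ x ∈ W, ∀ y ∈ W', pol Q x y = 0
  eig : ∀ x ∈ W, (g : Matrix ι ι F) *ᵥ x = s • x
  eig' : ∀ x ∈ W', (g : Matrix ι ι F) *ᵥ x = (-s) • x
  odd : Odd (Module.finrank F W)
  odd' : Odd (Module.finrank F W')

variable {g : GL ι F} {W W' : Submodule F (ι → F)} {s : F}

theorem Side.symm (D : Side Q g W W' s) : Side Q g W' W (-s) :=
  ⟨neg_ne_zero.2 D.s0, D.two, D.nd', D.nd, D.compl.symm, fun x hx y hy => by rw [pcomm]; exact D.perp y hy x hx, D.eig',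
    fun x hx => by rw [neg_neg]; exact D.eig x hx, D.odd', D.odd⟩

variable (hQ : IsNondegenerateQuadraticForm Q)
include hQ

theorem Side.mem_of_eig (D : Side Q g W W' s) {x : ι → F} (hx : (g : Matrix ι ι F) *ᵥ x = s • x) : x ∈ W := by
  obtain ⟨p, hp, n, hn, rfl⟩ := Submodule.mem_sup.1 (D.compl.sup_eq_top.symm ▸ Submodule.mem_top (x := x))
  rw [mulVec_add, D.eig p hp, D.eig' n hn, smul_add, neg_smul] at hx
  have h1 : (2 * s) • n = 0 := by linear_combination (norm := module) -hx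
  rw [(smul_eq_zero.1 h1).resolve_left (mul_ne_zero D.two D.s0), add_zero]
  exact hp

/-- a group of automorphisms of odd order acts by a sign on the eigenspace -/
theorem Side.sign (D : Side Q g W W' s) (Y : Subgroup (GL ι F)) (hYL : Y ≤ commIso Q g) (hneg : (-1 : GL ι F) ∈ Y)
    (hnorm : ∀ u ∈ commIso Q g, ∀ y ∈ Y, u * y * u⁻¹ ∈ Y) {N : ℕ} (hN : Odd N)
    (hpow : ∀ y ∈ Y, y ^ N = 1 ∨ y ^ N = -1) :
    ∀ u ∈ Y, ∃ ε : F, (ε = 1 ∨ ε = -1) ∧ ∀ x ∈ W, (u : Matrix ι ι F) *ᵥ x = ε • x := by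
  obtain ⟨r, hr⟩ : ∃ r, r = Module.finrank F W := ⟨_, rfl⟩
  obtain ⟨b⟩ : Nonempty (Module.Basis (Fin r) F W) := ⟨hr ▸ Module.finBasis F W⟩
  obtain ⟨e, he⟩ : ∃ e : (Fin r → F) →ₗ[F] (ι → F), ∀ y, e y = ((b.equivFun.symm y : W) : ι → F) :=
    ⟨W.subtype.comp b.equivFun.symm.toLinearMap, fun y => rfl⟩
  have hemem : ∀ y, e y ∈ W := fun y => by rw [he]; exact Subtype.coe_prop _
  have hesurj : ∀ x ∈ W, ∃ y, e y = x := fun x hx => ⟨b.equivFun ⟨x, hx⟩, by rw [he, LinearEquiv.symm_apply_apply]⟩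
  have hinj : Function.Injective e := fun y z h => b.equivFun.symm.injective (Subtype.ext (by rw [← he, ← he, h]))
  have hpol : ∀ y z, pol (fun y => Q (e y)) y z = pol Q (e y) (e z) := fun y z => by
    simp only [QuadraticMap.polar, map_add]
  have hΦ : IsNondegenerateQuadraticForm (fun y : Fin r → F => Q (e y)) := by
    refine ⟨fun c y => by rw [map_smul, qsmul hQ], ?_, fun y hy => ?_⟩
    · constructor <;> intros <;>
        simp only [hpol, map_add, map_smul, padd_left hQ, padd_right hQ, psmul_left hQ, psmul_right hQ]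
    · obtain ⟨⟨x, hx, hx1⟩, x', hx', hx2⟩ := D.nd (e y) (hemem y) (fun h => hy (hinj (h.trans (map_zero e).symm)))
      obtain ⟨z, rfl⟩ := hesurj x hx
      obtain ⟨z', rfl⟩ := hesurj x' hx'
      exact ⟨⟨z, by rwa [hpol]⟩, ⟨z', by rwa [hpol]⟩⟩
  intro u hu
  refine Exists.imp (fun ε h => ⟨h.1, fun x hx => by obtain ⟨y, rfl⟩ := hesurj x hx; exact h.2 y⟩)
    (rep_sign (ι := ι) (F := F) hΦ D.two (by rw [Fintype.card_fin, hr]; exact D.odd) e.toAddMonoidHom hinj
    (commIso Q g) Y hYL hneg hnorm ?_ ?_ hN hpow u hu)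
  · intro w hw
    obtain ⟨hwi, hwg⟩ := mem_commIso.1 hw
    have hwW : ∀ x ∈ W, (w : Matrix ι ι F) *ᵥ x ∈ W := fun x hx => D.mem_of_eig hQ (by
      rw [← gl_mul_mulVec, hwg, gl_mul_mulVec, D.eig x hx, mulVec_smul])
    obtain ⟨T, hT⟩ : ∃ T : (Fin r → F) →ₗ[F] (Fin r → F), ∀ y, e (T y) = (w : Matrix ι ι F) *ᵥ e y := by
      refine ⟨b.equivFun.toLinearMap.comp (((Matrix.mulVecLin (w : Matrix ι ι F)).comp e).codRestrict W
        fun y => hwW _ (hemem y)), fun y => ?_⟩
      rw [he]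
      simp only [LinearMap.comp_apply, LinearEquiv.coe_coe, LinearEquiv.symm_apply_apply,
        LinearMap.codRestrict_apply, Matrix.mulVecLin_apply]
      rfl
    have hTinj : Function.Injective (LinearMap.toMatrix' T).mulVec := fun y z h => by
      rw [← Matrix.toLin'_apply, ← Matrix.toLin'_apply, Matrix.toLin'_toMatrix'] at h
      refine hinj ?_
      have h' := congrArg e h
      rw [hT, hT] at h'
      rw [← gl_inv_mulVec w (e y), h', gl_inv_mulVec]
    obtain ⟨U, hU⟩ : ∃ U : GL (Fin r) F, (U : Matrix (Fin r) (Fin r) F) = LinearMap.toMatrix' T :=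
      ⟨(Matrix.mulVec_injective_iff_isUnit.1 hTinj).unit, IsUnit.unit_spec _⟩
    have hUe : ∀ y, e ((U : Matrix (Fin r) (Fin r) F) *ᵥ y) = (w : Matrix ι ι F) *ᵥ e y := fun y => by
      rw [hU, ← Matrix.toLin'_apply, Matrix.toLin'_toMatrix', hT]
    exact ⟨U, mem_iso.2 fun y => by show Q (e _) = Q (e y); rw [hUe, mem_iso.1 hwi], hUe⟩
  · intro U hU
    obtain ⟨χ, hχl, hχr⟩ : ∃ χ : (ι → F) →ₗ[F] (ι → F),
        (∀ y, χ (e y) = e ((U : Matrix (Fin r) (Fin r) F) *ᵥ y)) ∧ ∀ x ∈ W', χ x = x := by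
      refine ⟨LinearMap.ofIsCompl D.compl (e.comp ((Matrix.mulVecLin (U : Matrix (Fin r) (Fin r) F)).comp
        b.equivFun.toLinearMap)) W'.subtype, fun y => ?_, fun x hx => ?_⟩
      · have h := LinearMap.ofIsCompl_apply_left D.compl (φ := e.comp ((Matrix.mulVecLin (U : Matrix (Fin r) (Fin r) F)).comp
          b.equivFun.toLinearMap)) (ψ := W'.subtype) ⟨e y, hemem y⟩
        rw [h]
        have : b.equivFun ⟨e y, hemem y⟩ = y := by
          have e1 : (⟨e y, hemem y⟩ : W) = b.equivFun.symm y := Subtype.ext (he y)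
          rw [e1, LinearEquiv.apply_symm_apply]
        simp [this]
      · exact LinearMap.ofIsCompl_apply_right D.compl ⟨x, hx⟩
    have hdec : ∀ x, ∃ y, ∃ n ∈ W', x = e y + n := fun x => by
      obtain ⟨p, hp, n, hn, rfl⟩ := Submodule.mem_sup.1 (D.compl.sup_eq_top.symm ▸ Submodule.mem_top (x := x))
      obtain ⟨y, rfl⟩ := hesurj p hp
      exact ⟨y, n, hn, rfl⟩
    have hχQ : ∀ x, Q (χ x) = Q x := fun x => by
      obtain ⟨y, n, hn, rfl⟩ := hdec x
      rw [map_add, hχl, hχr n hn, qadd hQ, qadd hQ, D.perp _ (hemem _) n hn, D.perp _ (hemem _) n hn]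
      have := mem_iso.1 hU y
      rw [this]
    have hχinj : Function.Injective (LinearMap.toMatrix' χ).mulVec := fun y z h => by
      rw [← Matrix.toLin'_apply, ← Matrix.toLin'_apply, Matrix.toLin'_toMatrix'] at h
      by_contra hne
      obtain ⟨-, x, hx⟩ := hQ.nondegenerate (y - z) (sub_ne_zero.2 hne)
      refine hx ?_
      have h0 : χ (y - z) = 0 := by rw [map_sub, h, sub_self]
      have e1 : pol Q (χ (y - z)) (χ x) = pol Q (y - z) x := by
        simp only [QuadraticMap.polar, ← map_add, hχQ]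
      rwa [h0, pzero_left hQ, eq_comm] at e1
    obtain ⟨w, hw⟩ : ∃ w : GL ι F, (w : Matrix ι ι F) = LinearMap.toMatrix' χ :=
      ⟨(Matrix.mulVec_injective_iff_isUnit.1 hχinj).unit, IsUnit.unit_spec _⟩
    have hwx : ∀ x, (w : Matrix ι ι F) *ᵥ x = χ x := fun x => by
      rw [hw, ← Matrix.toLin'_apply, Matrix.toLin'_toMatrix']
    refine ⟨w, mem_commIso.2 ⟨mem_iso.2 fun x => by rw [hwx, hχQ], gl_ext_vec fun x => ?_⟩, fun y => ?_⟩
    · obtain ⟨y, n, hn, rfl⟩ := hdec x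
      rw [gl_mul_mulVec, gl_mul_mulVec, mulVec_add (g : Matrix ι ι F), D.eig _ (hemem y), D.eig' n hn, hwx, hwx, map_add,
        map_add, map_smul, map_smul, hχl, hχr n hn, mulVec_add, D.eig _ (hemem _), D.eig' n hn]
    · show e _ = _
      rw [hwx]
      exact (hχl y).symm

/-- the semilinear map keeps each line of the eigenspace -/
theorem Side.lines (D : Side Q g W W' s) (hn : 8 ≤ Fintype.card ι) {h : GL ι F} {τ : F ≃+* F}
    (hh : Cfsg.IsSemisimilarityPair Q h τ) (hc : CommInner Q g h hh) (hd : 3 ≤ Module.finrank F W) :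
    ∀ x ∈ W, ∃ α : F, ((h : Matrix ι ι F) *ᵥ fun l => τ (x l)) = α • x := by
  obtain ⟨S, hS⟩ : ∃ S : (ι → F) → ι → F, ∀ x, S x = (h : Matrix ι ι F) *ᵥ fun l => τ (x l) :=
    ⟨fun x => (h : Matrix ι ι F) *ᵥ fun l => τ (x l), fun x => rfl⟩
  have hSadd : ∀ x y, S (x + y) = S x + S y := fun x y => by
    rw [hS, hS, hS, ← mulVec_add]; congr 1; funext l; simp
  have h2 := D.two
  have haniso : ∀ v ∈ W, Q v ≠ 0 → ∃ α : F, S v = α • v := by
    intro v hv hQv
    obtain ⟨U, hUnd, hUd, hUp, hUe⟩ : ∃ U : Submodule F (ι → F), NdOn Q U ∧ 3 ≤ Module.finrank F U ∧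
        (∀ w ∈ U, pol Q v w = 0) ∧ ∀ w ∈ U, ∃ s' : F, s' ≠ 0 ∧ (g : Matrix ι ι F) *ᵥ w = s' • w := by
      by_cases h3 : 3 ≤ Module.finrank F W'
      · exact ⟨W', D.nd', h3, D.perp v hv, fun w hw => ⟨-s, neg_ne_zero.2 D.s0, D.eig' w hw⟩⟩
      · refine ⟨W ⊓ LinearMap.ker (pfl hQ v), ?_, ?_, fun w hw => ?_, fun w hw => ⟨s, D.s0, D.eig w hw.1⟩⟩
        · intro w hw hw0
          have hwv : pol Q w v = 0 := LinearMap.mem_ker.1 hw.2
          obtain ⟨y, hy, hyw⟩ := (D.nd w hw.1 hw0).2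
          obtain ⟨y', hy'⟩ : ∃ y', y' = y - (pol Q y v / (2 * Q v)) • v := ⟨_, rfl⟩
          have hy'm : y' ∈ W ⊓ LinearMap.ker (pfl hQ v) := ⟨hy' ▸ W.sub_mem hy (W.smul_mem _ hv), by
            show pol Q y' v = 0
            rw [hy', psub_left hQ, psmul_left hQ, pself hQ, div_mul_cancel₀ _ (mul_ne_zero h2 hQv), sub_self]⟩
          have e1 : pol Q w y' = pol Q w y := by rw [hy', psub_right hQ, psmul_right hQ, hwv, mul_zero, sub_zero]
          exact ⟨⟨y', hy'm, by rw [pcomm, e1]; exact hyw⟩, ⟨y', hy'm, by rw [e1]; exact hyw⟩⟩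
        · have h1 := finrank_inf_pfl hQ W v
          have h1' := Submodule.finrank_add_eq_of_isCompl D.compl
          rw [Module.finrank_fintype_fun_eq_card] at h1'
          omega
        · rw [pcomm]; exact LinearMap.mem_ker.1 hw.2
    obtain ⟨w, hw, w', hw', hQw, hQw', hli⟩ := two_values hQ hUnd hUd (Q v)
    have hplane : ∀ z ∈ U, Q z = Q v → ∃ a b : F, S v = a • v + b • z := by
      intro z hz hQz
      have horth : ∀ i j, i ≠ j → pol Q (![v, z] i) (![v, z] j) = 0 := by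
        intro i j hij
        fin_cases i <;> fin_cases j
        · exact absurd rfl hij
        · exact hUp z hz
        · show pol Q z v = 0; rw [pcomm]; exact hUp z hz
        · exact absurd rfl hij
      have han : ∀ i, Q (![v, z] i) ≠ 0 := by
        intro i
        fin_cases i
        · exact hQv
        · show Q z ≠ 0; rw [hQz]; exact hQv
      obtain ⟨u, hu, hud, hus, huf⟩ := exists_orefl hQ h2 (by omega) 2 ![v, z] horth han
      have hgu : g * u = u * g := by
        refine gl_ext_vec fun x => ?_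
        obtain ⟨s', hs'0, hs'⟩ := hUe z hz
        rw [gl_mul_mulVec, gl_mul_mulVec, huf, huf, mulVec_sub, Fin.sum_univ_two, Fin.sum_univ_two]
        simp only [Matrix.cons_val_zero, Matrix.cons_val_one, mulVec_add, mulVec_smul, D.eig v hv, hs', smul_smul]
        obtain ⟨p, hp, n, hn', rfl⟩ := Submodule.mem_sup.1 (D.compl.sup_eq_top.symm ▸ Submodule.mem_top (x := x))
        have hev : pol Q ((g : Matrix ι ι F) *ᵥ (p + n)) v = s * pol Q (p + n) v := by
          rw [mulVec_add, D.eig p hp, D.eig' n hn', padd_left hQ, padd_left hQ, psmul_left hQ, psmul_left hQ,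
            pcomm n v, D.perp v hv n hn']
          ring
        have hez : pol Q ((g : Matrix ι ι F) *ᵥ (p + n)) z = s' * pol Q (p + n) z := by
          obtain ⟨zp, hzp, zn, hzn, hzz⟩ := Submodule.mem_sup.1 (D.compl.sup_eq_top.symm ▸ Submodule.mem_top (x := z))
          have key : ∀ y, pol Q ((g : Matrix ι ι F) *ᵥ y) z = pol Q y ((g : Matrix ι ι F) *ᵥ z) := fun y => by
            obtain ⟨yp, hyp, yn, hyn, rfl⟩ := Submodule.mem_sup.1 (D.compl.sup_eq_top.symm ▸ Submodule.mem_top (x := y))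
            rw [← hzz, mulVec_add, mulVec_add, D.eig yp hyp, D.eig' yn hyn, D.eig zp hzp, D.eig' zn hzn]
            simp only [padd_left hQ, padd_right hQ, psmul_left hQ, psmul_right hQ, D.perp yp hyp zn hzn,
              pcomm yn zp, D.perp zp hzp yn hyn]
            ring
          rw [key, hs', psmul_right hQ]
        rw [hev, hez]
        module
      have hspn : spn Q u = 1 := by
        rw [hus, Fin.prod_univ_two]
        show sqc (Q v * Q z) = 1
        rw [hQz]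
        exact (sqc_eq_one_iff (mul_ne_zero hQv hQv)).2 ⟨Q v, rfl⟩
      obtain ⟨a, ha⟩ := neg_span hQ h2 (by omega) (t := 2) (by omega) horth han hu huf hh
        (hc u hu hgu hspn (by rw [hud]; norm_num)) 0
      refine ⟨a 0, a 1, ?_⟩
      rw [Fin.sum_univ_two] at ha
      rw [hS]
      exact ha
    refine mem_line (U := U) (fun hvU => hQv ?_) hw hw' hli (hplane w hw hQw) (hplane w' hw' hQw')
    have := hUp v hvU
    rw [pself hQ] at this
    exact (mul_eq_zero.1 this).resolve_left h2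
  intro x hx
  rw [← hS]
  by_cases hQx : Q x = 0
  swap
  · exact haniso x hx hQx
  rcases eq_or_ne x 0 with rfl | hx0
  · refine ⟨0, ?_⟩
    rw [zero_smul]
    have := hSadd 0 0
    rw [add_zero] at this
    exact left_eq_add.1 this
  obtain ⟨y, hy, hQy, hxy⟩ := exists_qpartner hQ D.nd hx hx0 hQx
  have hfr := pair_finrank hQ hx hy hQx hQy hxy
  obtain ⟨z, hz, hQz⟩ := exists_nonsingular hQ (pair_nd hQ hx hy hQx hQy hxy D.nd) (fun h0 => by
    rw [h0, finrank_bot] at hfr; omega)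
  obtain ⟨hzW, hzx, hzy⟩ := (mem_pairPerp hQ).1 hz
  obtain ⟨γ, hγ⟩ := haniso z hzW hQz
  obtain ⟨α, hα⟩ := haniso (x + z) (W.add_mem hx hzW) (by rw [qadd hQ, hQx, pcomm, hzx, zero_add, add_zero]; exact hQz)
  obtain ⟨β, hβ⟩ := haniso (x - z) (W.sub_mem hx hzW) (by
    rw [qsub hQ, hQx, pcomm, hzx, zero_add, sub_zero]; exact hQz)
  have e1 : S (x + z) = S x + γ • z := by rw [hSadd, hγ]
  have e2 : S x = S (x - z) + γ • z := by rw [← hγ, ← hSadd, sub_add_cancel]
  rw [hα] at e1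
  rw [hβ] at e2
  have e3 : (α - β) • x + (α + β - 2 * γ) • z = 0 := by linear_combination (norm := module) e1 + e2
  have e4 := congrArg (fun w => pol Q w y) e3
  simp only [padd_left hQ, psmul_left hQ, hxy, hzy, pzero_left hQ, mul_one, mul_zero, add_zero] at e4
  rw [e4, zero_smul, zero_add] at e3
  have hz0 : z ≠ 0 := fun e => hQz (by rw [e, qzero hQ])
  have e5 := (smul_eq_zero.1 e3).resolve_right hz0
  refine ⟨α, ?_⟩
  have : α = γ := mul_left_cancel₀ h2 (by linear_combination e5 + e4)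
  rw [this] at e1 ⊢
  linear_combination (norm := module) -e1

/-- the semilinear map is linear and scalar on both eigenspaces -/
theorem split_pin (D : Side Q g W W' s) (hn : 8 ≤ Fintype.card ι) (hd : 3 ≤ Module.finrank F W) {h : GL ι F}
    {τ : F ≃+* F} (hh : Cfsg.IsSemisimilarityPair Q h τ) (hc : CommInner Q g h hh) :
    τ = RingEquiv.refl F ∧ ∃ c : F, (h : Matrix ι ι F) = c • 1 ∨ (h : Matrix ι ι F) = c • (g : Matrix ι ι F) := by
  obtain ⟨S, hS⟩ : ∃ S : (ι → F) → ι → F, ∀ x, S x = (h : Matrix ι ι F) *ᵥ fun l => τ (x l) :=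
    ⟨fun x => (h : Matrix ι ι F) *ᵥ fun l => τ (x l), fun x => rfl⟩
  have hSadd : ∀ x y, S (x + y) = S x + S y := fun x y => by
    rw [hS, hS, hS, ← mulVec_add]; congr 1; funext l; simp
  obtain ⟨α, hα⟩ := eigen_scalar S hSadd (P := W) (by omega) (fun x hx => by
    rw [hS]; exact D.lines hQ hn hh hc hd x hx)
  obtain ⟨x, hx, hx0⟩ := exists_nonsingular hQ D.nd (fun h0 => by rw [h0, finrank_bot] at hd; omega)
  have hxne : x ≠ 0 := fun e => hx0 (by rw [e, qzero hQ])
  have hinj : ∀ y, S y = 0 → y = 0 := fun y hy => by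
    rw [hS] at hy
    have h1 := gl_inv_mulVec h fun l => τ (y l)
    rw [hy, mulVec_zero] at h1
    exact funext fun l => (map_eq_zero_iff τ τ.injective).1 (congrFun h1.symm l)
  have hα0 : α ≠ 0 := fun e => hxne (hinj x (by rw [hα x hx, e, zero_smul]))
  have hτ : τ = RingEquiv.refl F := RingEquiv.ext fun c => by
    have h1 := hα (c • x) (W.smul_mem _ hx)
    have h2' : S (c • x) = τ c • S x := by rw [hS, hS, ← mulVec_smul]; congr 1; funext l; simp
    rw [h2', hα x hx, smul_smul, smul_smul] at h1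
    have h3 : (τ c * α - α * c) • x = 0 := by rw [sub_smul, h1, sub_self]
    show τ c = c
    exact mul_right_cancel₀ hα0 (by linear_combination (smul_eq_zero.1 h3).resolve_right hxne)
  subst hτ
  refine ⟨rfl, ?_⟩
  have hSl : ∀ y, S y = (h : Matrix ι ι F) *ᵥ y := fun y => hS y
  obtain ⟨β, hβ⟩ : ∃ β, ∀ y ∈ W', S y = β • y := by
    by_cases h3 : 3 ≤ Module.finrank F W'
    · exact eigen_scalar S hSadd (P := W') (by omega) (fun x hx => by rw [hS]; exact D.symm.lines hQ hn hh hc h3 x hx)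
    · obtain ⟨v, hv0, hv⟩ := finrank_eq_one_iff'.1 (show Module.finrank F W' = 1 by
        obtain ⟨j, hj⟩ := D.odd'; omega)
      obtain ⟨n, hn', hn0, hsp⟩ : ∃ n, n ∈ W' ∧ n ≠ 0 ∧ ∀ y ∈ W', ∃ c : F, c • n = y :=
        ⟨v, v.2, fun e => hv0 (Subtype.ext e), fun y hy => by
          obtain ⟨c, hc⟩ := hv ⟨y, hy⟩
          exact ⟨c, congrArg Subtype.val hc⟩⟩
      obtain ⟨c, hc'⟩ : ∃ c : F, c • n = (h : Matrix ι ι F) *ᵥ n := by
        refine hsp _ ?_
        -- the complement is the orthogonal space of `W`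
        obtain ⟨p, hp, q, hq, hpq⟩ := Submodule.mem_sup.1
          (D.compl.sup_eq_top.symm ▸ Submodule.mem_top (x := (h : Matrix ι ι F) *ᵥ n))
        have hp0 : p = 0 := by
          by_contra hne
          obtain ⟨y, hy, hyp⟩ := (D.nd p hp hne).2
          refine hyp ?_
          obtain ⟨d, hd'⟩ := id hh
          have hd1 : ∀ v, Q ((h : Matrix ι ι F) *ᵥ v) = (d : F) * Q v := fun v => hd' v
          have e1 : pol Q ((h : Matrix ι ι F) *ᵥ n) ((h : Matrix ι ι F) *ᵥ y) = (d : F) * pol Q n y := by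
            simp only [QuadraticMap.polar, ← mulVec_add, hd1]; ring
          rw [← hSl y, hα y hy, psmul_right hQ, ← hpq, padd_left hQ, pcomm q y, D.perp y hy q hq, add_zero,
            pcomm n y, D.perp y hy n hn', mul_zero] at e1
          exact (mul_eq_zero.1 e1).resolve_left hα0
        rwa [← hpq, hp0, zero_add]
      refine ⟨c, fun y hy => ?_⟩
      obtain ⟨t, rfl⟩ := hsp y hy
      rw [hSl, mulVec_smul, ← hc', smul_comm]
  obtain ⟨d, hd'⟩ := hh
  have hd1 : ∀ v, Q ((h : Matrix ι ι F) *ᵥ v) = (d : F) * Q v := fun v => hd' v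
  obtain ⟨n, hn', hn0⟩ := exists_nonsingular hQ D.nd' (fun h0 => by
    have := D.odd'; rw [h0, finrank_bot] at this; exact absurd this (by decide))
  have e1 := hd1 x
  rw [← hSl, hα x hx, qsmul hQ] at e1
  have e2 := hd1 n
  rw [← hSl, hβ n hn', qsmul hQ] at e2
  have e3 : α ^ 2 = β ^ 2 := (mul_right_cancel₀ hx0 e1).trans (mul_right_cancel₀ hn0 e2).symm
  rcases sq_eq_sq_iff_eq_or_eq_neg.1 e3 with e | e
  · refine ⟨α, Or.inl (Matrix.ext_iff_mulVec.2 fun v => ?_)⟩
    obtain ⟨p, hp, q, hq, rfl⟩ := Submodule.mem_sup.1 (D.compl.sup_eq_top.symm ▸ Submodule.mem_top (x := v))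
    rw [← hSl, hSadd, hα p hp, hβ q hq, smul_mulVec, one_mulVec, ← e, smul_add]
  · refine ⟨α / s, Or.inr (Matrix.ext_iff_mulVec.2 fun v => ?_)⟩
    obtain ⟨p, hp, q, hq, rfl⟩ := Submodule.mem_sup.1 (D.compl.sup_eq_top.symm ▸ Submodule.mem_top (x := v))
    rw [← hSl, hSadd, hα p hp, hβ q hq, smul_mulVec, mulVec_add, D.eig p hp, D.eig' q hq, smul_add, smul_smul,
      smul_smul, mul_neg, div_mul_cancel₀ _ D.s0, show β = -α by rw [e, neg_neg]]

/-- the same in the split case -/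
theorem split_case (h2 : (2 : F) ≠ 0) (hn : 8 ≤ Fintype.card ι) {k : ℕ} (hk : Fintype.card ι = k + k) {c d t : F}
    (hG : ∀ v, Q ((g : Matrix ι ι F) *ᵥ v) = c * Q v)
    (hGG : (g : Matrix ι ι F) * (g : Matrix ι ι F) = d • 1) (ht : d = t * t) (hd0 : d ≠ 0) (hcd : c = d ∨ c = -d)
    (hsign : (g : Matrix ι ι F).det ≠ c ^ k) :
    (∀ Y : Subgroup (GL ι F), Y ≤ commIso Q g → (-1 : GL ι F) ∈ Y →
      (∀ u ∈ commIso Q g, ∀ y ∈ Y, u * y * u⁻¹ ∈ Y) → (∀ N : ℕ, Odd N → (∀ y ∈ Y, y ^ N = 1 ∨ y ^ N = -1) →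
      ∀ u ∈ Y, ∃ a : F, (u : Matrix ι ι F) = a • 1 ∨ (u : Matrix ι ι F) = a • (g : Matrix ι ι F))) ∧
    ∀ (h : GL ι F) (τ : F ≃+* F) (hh : Cfsg.IsSemisimilarityPair Q h τ), CommInner Q g h hh →
      τ = RingEquiv.refl F ∧ ∃ a : F, (h : Matrix ι ι F) = a • 1 ∨ (h : Matrix ι ι F) = a • (g : Matrix ι ι F) := by
  obtain ⟨hc', N, P, hodd, hNn, hPn, hdim, hPm, hNm⟩ := split_data hQ h2 hk hG hGG ht hd0 hcd hsign
  subst hc'
  have ht0 : t ≠ 0 := fun e => hd0 (by rw [ht, e, mul_zero])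
  have hinf : P ⊓ N = ⊥ := by
    refine (Submodule.eq_bot_iff _).2 fun x hx => ?_
    have h1 := (hPm x hx.1).symm.trans (hNm x hx.2)
    have h3 : (2 * t) • x = 0 := by linear_combination (norm := module) h1
    exact (smul_eq_zero.1 h3).resolve_left (mul_ne_zero h2 ht0)
  have hcompl : IsCompl P N := by
    refine ⟨disjoint_iff.2 hinf, codisjoint_iff.2 (Submodule.eq_top_of_finrank_eq ?_)⟩
    have h1 := Submodule.finrank_sup_add_finrank_inf_eq P N
    rw [hinf, finrank_bot, add_zero] at h1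
    rw [h1, Module.finrank_fintype_fun_eq_card, hk, hdim]
  have hperp : ∀ x ∈ P, ∀ y ∈ N, pol Q x y = 0 := fun x hx y hy => by
    have h1 : pol Q ((g : Matrix ι ι F) *ᵥ x) ((g : Matrix ι ι F) *ᵥ y) = c * pol Q x y := by
      simp only [QuadraticMap.polar, ← mulVec_add, hG]; ring
    rw [hPm x hx, hNm y hy, psmul_left hQ, psmul_right hQ] at h1
    have h3 : (2 * c) * pol Q x y = 0 := by rw [ht] at h1 ⊢; linear_combination -h1
    exact (mul_eq_zero.1 h3).resolve_left (mul_ne_zero h2 hd0)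
  have hoP : Odd (Module.finrank F P) := by
    obtain ⟨j, hj⟩ := hodd
    exact ⟨k - j - 1, by omega⟩
  have D : Side Q g P N t := ⟨ht0, h2, hPn, hNn, hcompl, hperp, hPm, hNm, hoP, hodd⟩
  constructor
  · intro Y hYL hneg hnorm M hM hpow u hu
    obtain ⟨ε, hε, hεe⟩ := D.sign hQ Y hYL hneg hnorm hM hpow u hu
    obtain ⟨δ, hδ, hδe⟩ := D.symm.sign hQ Y hYL hneg hnorm hM hpow u hu
    by_cases he : ε = δ
    · refine ⟨ε, Or.inl (Matrix.ext_iff_mulVec.2 fun v => ?_)⟩
      obtain ⟨p, hp, q, hq, rfl⟩ := Submodule.mem_sup.1 (hcompl.sup_eq_top.symm ▸ Submodule.mem_top (x := v))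
      rw [mulVec_add, hεe p hp, hδe q hq, smul_mulVec, one_mulVec, ← he, smul_add]
    · have he' : δ = -ε := by
        rcases hε with e | e <;> rcases hδ with e' | e' <;> subst e e' <;> first | exact absurd rfl he | ring
      refine ⟨ε / t, Or.inr (Matrix.ext_iff_mulVec.2 fun v => ?_)⟩
      obtain ⟨p, hp, q, hq, rfl⟩ := Submodule.mem_sup.1 (hcompl.sup_eq_top.symm ▸ Submodule.mem_top (x := v))
      rw [mulVec_add, hεe p hp, hδe q hq, smul_mulVec, mulVec_add, hPm p hp, hNm q hq, smul_add, smul_smul,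
        smul_smul, mul_neg, div_mul_cancel₀ _ ht0, he']
  · intro h τ hh hc
    by_cases h3 : 3 ≤ Module.finrank F P
    · exact split_pin hQ D hn h3 hh hc
    · exact split_pin hQ D.symm hn (by omega) hh hc

end CfsgLib.Orth.Balance
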