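import Cfsg.Agent.Lib.Orth.Field.BalanceModel
import Cfsg.Agent.Lib.Orth.Centre
import Cfsg.Agent.Lib.Orth.SignGroup

/-!
# An orthogonal group in odd dimension has no normal subgroups of odd order
-/

set_option autoImplicit false
set_option linter.all false

namespace CfsgLib.Orth.Balance

open scoped Matrix
open Matrix Cfsg.Geo CfsgLib.Orth CfsgLib.Perm.Asch CfsgLib.Perm.Trans CfsgLib.Perm.Trans.Quad

variable {F : Type*} [Field F] [Fintype F] {ι : Type} [Fintype ι] [DecidableEq ι] {Q : (ι → F) → F}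

local notation "pol" => QuadraticMap.polar

variable (hQ : IsNondegenerateQuadraticForm Q) (h2 : (2 : F) ≠ 0)
include hQ h2

theorem det_eq_one_of_odd (hodd : Odd (Fintype.card ι)) {u : GL ι F} (hu : u ∈ Cfsg.isometryGroup F Q)
    (ho : Odd (orderOf u)) : (u : Matrix ι ι F).det = 1 := by
  have h1 := det_sq_sim hQ (g := (u : Matrix ι ι F)) (c := 1) (fun v => by rw [one_mul, mem_iso.1 hu])
  rw [one_pow] at h1
  rcases mul_self_eq_one_iff.1 h1 with h | h
  · exact h
  · have h3 := congrArg (fun x : GL ι F => (x : Matrix ι ι F).det) (pow_orderOf_eq_one u)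
    simp only [Units.val_pow_eq_pow_val, Matrix.det_pow, Units.val_one, Matrix.det_one, h, ho.neg_one_pow] at h3
    exact absurd (by linear_combination -h3) h2

/-- a rotation in odd dimension fixes a vector -/
theorem exists_fixed_of_det (hodd : Odd (Fintype.card ι)) {u : GL ι F} (hu : u ∈ Cfsg.isometryGroup F Q)
    (hd : (u : Matrix ι ι F).det = 1) : ∃ a, a ≠ 0 ∧ (u : Matrix ι ι F) *ᵥ a = a := by
  obtain ⟨Z, hZ⟩ : ∃ Z, Z = (u : Matrix ι ι F) := ⟨_, rfl⟩
  have hG : Zᵀ * SignGroup.gram Q * Z = SignGroup.gram Q := by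
    ext i j
    rw [SignGroup.gram_congr hQ h2]
    show _ = pol Q (Pi.single i 1) (Pi.single j 1)
    rw [show (fun r => Z r i) = Z *ᵥ Pi.single i 1 from (Matrix.mulVec_single_one Z i).symm,
      show (fun r => Z r j) = Z *ᵥ Pi.single j 1 from (Matrix.mulVec_single_one Z j).symm, hZ]
    exact iso_pol hu _ _
  have e : (Z - 1)ᵀ * SignGroup.gram Q * Z = -(SignGroup.gram Q * (Z - 1)) := by
    rw [Matrix.transpose_sub, Matrix.transpose_one, sub_mul, sub_mul, hG, one_mul, mul_sub, mul_one, neg_sub]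
  have h := congrArg Matrix.det e
  rw [← hZ] at hd
  rw [det_mul, det_mul, det_transpose, hd, mul_one, det_neg, hodd.neg_one_pow, det_mul] at h
  have h0 : (2 * (SignGroup.gram Q).det) * (Z - 1).det = 0 := by linear_combination h
  have h1 := (mul_eq_zero.1 h0).resolve_left (mul_ne_zero h2 (SignGroup.gram_det_ne hQ h2))
  obtain ⟨a, ha, ha'⟩ := Matrix.exists_mulVec_eq_zero_iff.2 h1
  exact ⟨a, ha, by rw [Matrix.sub_mulVec, one_mulVec, sub_eq_zero] at ha'; rw [← hZ]; exact ha'⟩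

/-- in dimension three only the identity of odd order fixes two independent vectors -/
theorem eq_one_of_two_fixed (h3 : Fintype.card ι = 3) {z : GL ι F} (hz : z ∈ Cfsg.isometryGroup F Q)
    (ho : Odd (orderOf z)) {a b : ι → F} (hab : LinearIndependent F ![a, b])
    (ha : (z : Matrix ι ι F) *ᵥ a = a) (hb : (z : Matrix ι ι F) *ᵥ b = b) : z = 1 := by
  obtain ⟨W, hW⟩ : ∃ W, W = Submodule.span F (Set.range ![a, b]) := ⟨_, rfl⟩
  have hWr : Module.finrank F W = 2 := by rw [hW, finrank_span_eq_card hab, Fintype.card_fin]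
  obtain ⟨K, hK⟩ : ∃ K, K = LinearMap.ker (Matrix.mulVecLin (z : Matrix ι ι F) - 1) := ⟨_, rfl⟩
  have hKm : ∀ x, x ∈ K ↔ (z : Matrix ι ι F) *ᵥ x = x := fun x => by
    rw [hK, LinearMap.mem_ker, LinearMap.sub_apply, Module.End.one_apply, Matrix.mulVecLin_apply, sub_eq_zero]
  have hWK : W ≤ K := by
    rw [hW, Submodule.span_le]
    rintro _ ⟨i, rfl⟩
    fin_cases i
    · exact (hKm _).2 ha
    · exact (hKm _).2 hb
  have h1 := finrank_qperp hQ W
  have h1' := finrank_qperp_le hQ W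
  obtain ⟨e, he, he0⟩ := Submodule.exists_mem_ne_zero_of_ne_bot (p := qperp hQ W) (fun hbot => by
    rw [hbot, finrank_bot] at h1; omega)
  have hle : qperp hQ W = Submodule.span F {e} :=
    (Submodule.eq_of_le_of_finrank_le ((Submodule.span_singleton_le_iff_mem _ _).2 he) (by
      rw [finrank_span_singleton he0]; omega)).symm
  have hzx : ∀ x, ∃ t : F, (z : Matrix ι ι F) *ᵥ x = x + t • e := fun x => by
    have hm : (z : Matrix ι ι F) *ᵥ x - x ∈ qperp hQ W := fun w hw => by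
      rw [psub_left hQ]
      conv_lhs => arg 1; rw [← (hKm w).1 (hWK hw)]
      rw [iso_pol hz, sub_self]
    rw [hle] at hm
    obtain ⟨t, ht⟩ := Submodule.mem_span_singleton.1 hm
    exact ⟨t, by rw [ht, add_sub_cancel]⟩
  obtain ⟨y, hy, hye⟩ : ∃ y, (z : Matrix ι ι F) *ᵥ y = y ∧ pol Q y e ≠ 0 := by
    by_cases hQe : Q e = 0
    · obtain ⟨⟨x, hx⟩, -⟩ := hQ.nondegenerate e he0
      obtain ⟨t, ht⟩ := hzx x
      refine ⟨x, ?_, hx⟩
      have hq := mem_iso.1 hz x
      rw [ht, qadd hQ, qsmul hQ, hQe, mul_zero, add_zero, psmul_right hQ, add_eq_left] at hq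
      rw [ht, (mul_eq_zero.1 hq).resolve_right hx, zero_smul, add_zero]
    · obtain ⟨t, ht⟩ := hzx e
      refine ⟨e, ?_, by rw [pself hQ]; exact mul_ne_zero h2 hQe⟩
      have hs : (z : Matrix ι ι F) *ᵥ e = (1 + t) • e := by rw [ht, add_smul, one_smul]
      have hq := mem_iso.1 hz e
      rw [hs, qsmul hQ] at hq
      have hpow : ∀ k : ℕ, ((z ^ k : GL ι F) : Matrix ι ι F) *ᵥ e = (1 + t) ^ k • e := by
        intro k
        induction k with
        | zero => simp
        | succ k ih => rw [pow_succ, gl_mul_mulVec, hs, mulVec_smul, ih, smul_smul, pow_succ']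
      have h4 := hpow (orderOf z)
      rw [pow_orderOf_eq_one, Units.val_one, one_mulVec] at h4
      have h5 : (1 + t) ^ orderOf z = 1 := by
        by_contra hne
        have : ((1 + t) ^ orderOf z - 1) • e = 0 := by rw [sub_smul, one_smul, ← h4, sub_self]
        exact he0 ((smul_eq_zero.1 this).resolve_left (sub_ne_zero.2 hne))
      rcases sq_eq_one_iff.1 (mul_right_cancel₀ hQe (hq.trans (one_mul _).symm)) with h | h
      · rw [hs, h, one_smul]
      · rw [h, ho.neg_one_pow] at h5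
        exact absurd (by linear_combination -h5) h2
  have hyW : y ∉ W := fun h => hye (by rw [pcomm]; exact he y h)
  have htop : W ⊔ Submodule.span F {y} = ⊤ := by
    refine Submodule.eq_top_of_finrank_eq ?_
    have hlt : W < W ⊔ Submodule.span F {y} :=
      lt_of_le_of_ne le_sup_left fun e' => hyW (e' ▸ Submodule.mem_sup_right (Submodule.mem_span_singleton_self y))
    have h5 := Submodule.finrank_lt_finrank_of_lt hlt
    have h6 := Submodule.finrank_le (W ⊔ Submodule.span F {y})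
    rw [Module.finrank_fintype_fun_eq_card] at h6 ⊢
    omega
  have hall : ∀ x, x ∈ K := fun x => by
    have hx : x ∈ W ⊔ Submodule.span F {y} := htop ▸ Submodule.mem_top
    exact sup_le hWK ((Submodule.span_singleton_le_iff_mem _ _).2 ((hKm _).2 hy)) hx
  exact gl_ext_vec fun x => by rw [(hKm x).1 (hall x), Units.val_one, one_mulVec]

theorem li_pair {a b : ι → F} (ha : a ≠ 0) (hb : b ∉ Submodule.span F {a}) : LinearIndependent F ![a, b] :=
  (LinearIndependent.pair_iff' ha).2 fun t ht => hb (Submodule.mem_span_singleton.2 ⟨t, ht⟩)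

omit hQ h2 in
theorem pow_fix {z : GL ι F} {a : ι → F} {s : F} (h : (z : Matrix ι ι F) *ᵥ a = s • a) (k : ℕ) :
    ((z ^ k : GL ι F) : Matrix ι ι F) *ᵥ a = s ^ k • a := by
  induction k with
  | zero => simp
  | succ k ih => rw [pow_succ, gl_mul_mulVec, h, mulVec_smul, ih, smul_smul, pow_succ']

/-- the fixed line of `z` is fixed by the odd elements commuting with `z` -/
theorem fixes_of_commute (h3 : Fintype.card ι = 3) {z w : GL ι F} (hz : z ∈ Cfsg.isometryGroup F Q)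
    (hw : w ∈ Cfsg.isometryGroup F Q) (hoz : Odd (orderOf z)) (how : Odd (orderOf w)) (hz1 : z ≠ 1)
    (hc : z * w = w * z) {a : ι → F} (ha0 : a ≠ 0) (ha : (z : Matrix ι ι F) *ᵥ a = a) :
    (w : Matrix ι ι F) *ᵥ a = a := by
  have hline : ∀ c, (z : Matrix ι ι F) *ᵥ c = c → c ∈ Submodule.span F {a} := fun c hcf => by
    by_contra hne
    exact hz1 (eq_one_of_two_fixed hQ h2 h3 hz hoz (li_pair hQ h2 ha0 hne) ha hcf)
  obtain ⟨s, hs⟩ := Submodule.mem_span_singleton.1 (hline ((w : Matrix ι ι F) *ᵥ a) (by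
    rw [← gl_mul_mulVec, hc, gl_mul_mulVec, ha]))
  have hsN : s ^ orderOf w = 1 := by
    have h := pow_fix hs.symm (orderOf w)
    rw [pow_orderOf_eq_one, Units.val_one, one_mulVec] at h
    by_contra hne
    have : (s ^ orderOf w - 1) • a = 0 := by rw [sub_smul, one_smul, ← h, sub_self]
    exact ha0 ((smul_eq_zero.1 this).resolve_left (sub_ne_zero.2 hne))
  suffices hsq : s = 1 ∨ s = -1 by
    rcases hsq with h | h
    · rw [← hs, h, one_smul]
    · rw [h, how.neg_one_pow] at hsN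
      exact absurd (by linear_combination -hsN) h2
  by_cases hQa : Q a = 0
  swap
  · refine sq_eq_one_iff.1 (mul_right_cancel₀ hQa ?_)
    rw [one_mul, ← qsmul hQ, hs, mem_iso.1 hw]
  left
  obtain ⟨A, hA⟩ : ∃ A, A = qperp hQ (Submodule.span F {a}) := ⟨_, rfl⟩
  have hA2 : 2 ≤ Module.finrank F A := by
    have h := finrank_qperp hQ (Submodule.span F {a})
    rw [← hA, finrank_span_singleton ha0] at h
    omega
  have hA2' : Module.finrank F A ≤ 2 := by
    have h := finrank_qperp_le hQ (Submodule.span F {a})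
    rw [← hA, finrank_span_singleton ha0] at h
    omega
  have haA : a ∈ A := by
    rw [hA]
    refine (mem_qperp_span hQ).2 ?_
    intro x hx
    rw [Set.mem_singleton_iff.1 hx, pself hQ, hQa, mul_zero]
  obtain ⟨b, hbA, hb⟩ : ∃ b ∈ A, b ∉ Submodule.span F {a} := SetLike.exists_of_lt
    (lt_of_le_of_ne ((Submodule.span_singleton_le_iff_mem _ _).2 haA) fun e => by
      rw [← e, finrank_span_singleton ha0] at hA2; omega)
  have hab := li_pair hQ h2 ha0 hb
  have hba : pol Q b a = 0 := by rw [hA] at hbA; exact (mem_qperp_span hQ).1 hbA a rfl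
  have hbQ : Q b ≠ 0 := fun h0 => by
    obtain ⟨T, hT⟩ : ∃ T, T = Submodule.span F (Set.range ![a, b]) := ⟨_, rfl⟩
    have hTT : T ≤ qperp hQ T := by
      rw [hT, Submodule.span_le]
      rintro _ ⟨i, rfl⟩
      refine (mem_qperp_span hQ).2 ?_
      rintro _ ⟨j, rfl⟩
      fin_cases i <;> fin_cases j <;> simp [pself hQ, hQa, h0, hba, pcomm a b]
    have h4 := Submodule.finrank_mono hTT
    have h5 := finrank_qperp_le hQ T
    rw [hT, finrank_span_eq_card hab, Fintype.card_fin] at h4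
    rw [hT, finrank_span_eq_card hab, Fintype.card_fin] at h5
    omega
  have hAeq : A = Submodule.span F (Set.range ![a, b]) :=
    (Submodule.eq_of_le_of_finrank_le (Submodule.span_le.2 (by
      rintro _ ⟨i, rfl⟩
      fin_cases i
      · exact haA
      · exact hbA)) (by rw [finrank_span_eq_card hab, Fintype.card_fin]; omega)).symm
  have hact : ∀ u : GL ι F, u ∈ Cfsg.isometryGroup F Q → Odd (orderOf u) → ∀ r : F,
      (u : Matrix ι ι F) *ᵥ a = r • a → r ≠ 0 → ∃ d : F, (u : Matrix ι ι F) *ᵥ b = b + d • a := by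
    intro u hu hou r hr hr0
    have hm : (u : Matrix ι ι F) *ᵥ b ∈ A := by
      rw [hA]
      refine (mem_qperp_span hQ).2 ?_
      intro x hx
      rw [Set.mem_singleton_iff.1 hx]
      have e : pol Q ((u : Matrix ι ι F) *ᵥ b) (r • a) = 0 := by rw [← hr, iso_pol hu, hba]
      rw [psmul_right hQ] at e
      exact (mul_eq_zero.1 e).resolve_left hr0
    rw [hAeq, Matrix.range_cons_cons_empty, Submodule.mem_span_pair] at hm
    obtain ⟨d, ε, hde⟩ := hm
    refine ⟨d, ?_⟩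
    have hq := mem_iso.1 hu b
    rw [← hde, qadd hQ, qsmul hQ, qsmul hQ, hQa, psmul_left hQ, psmul_right hQ, pcomm a b, hba] at hq
    have he2 : ε ^ 2 = 1 := mul_right_cancel₀ hbQ (by linear_combination hq)
    have hiter : ∀ k : ℕ, ∃ d' : F, ((u ^ k : GL ι F) : Matrix ι ι F) *ᵥ b = ε ^ k • b + d' • a := by
      intro k
      induction k with
      | zero => exact ⟨0, by simp⟩
      | succ k ih =>
        obtain ⟨d', hd'⟩ := ih
        refine ⟨d * r ^ k + ε * d', ?_⟩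
        rw [pow_succ, gl_mul_mulVec, ← hde, mulVec_add, mulVec_smul, mulVec_smul, pow_fix hr, hd', pow_succ']
        module
    obtain ⟨d', hd'⟩ := hiter (orderOf u)
    rw [pow_orderOf_eq_one, Units.val_one, one_mulVec] at hd'
    rcases sq_eq_one_iff.1 he2 with h | h
    · rw [← hde, h, one_smul, add_comm]
    · rw [h, hou.neg_one_pow] at hd'
      have h6 : d' • a + (-2 : F) • b = 0 := by
        linear_combination (norm := module) -hd'
      exact absurd ((LinearIndependent.pair_iff.1 hab _ _ h6).2) (neg_ne_zero.2 h2)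
  have hs0 : s ≠ 0 := fun e => by rw [e, zero_pow (by exact fun e' => by rw [e'] at how; exact absurd how (by decide))] at hsN; exact zero_ne_one hsN
  obtain ⟨c, hzb⟩ := hact z hz hoz 1 (by rw [one_smul, ha]) one_ne_zero
  obtain ⟨d, hwb⟩ := hact w hw how s hs.symm hs0
  have hc0 : c ≠ 0 := fun e => by
    rw [e, zero_smul, add_zero] at hzb
    exact hb (hline b hzb)
  have e1 : ((z * w : GL ι F) : Matrix ι ι F) *ᵥ b = ((w * z : GL ι F) : Matrix ι ι F) *ᵥ b := by rw [hc]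
  rw [gl_mul_mulVec, gl_mul_mulVec, hzb, hwb, mulVec_add, mulVec_add, mulVec_smul, mulVec_smul, hzb, hwb, ha,
    ← hs] at e1
  have h6 : (c - c * s) • a = 0 := by linear_combination (norm := module) e1
  have := (smul_eq_zero.1 h6).resolve_right ha0
  exact (mul_left_cancel₀ hc0 (by linear_combination this : c * 1 = c * s)).symm

variable (Y : Subgroup (GL ι F)) (hYi : Y ≤ Cfsg.isometryGroup F Q)
  (hYn : ∀ u ∈ Cfsg.isometryGroup F Q, ∀ y ∈ Y, u * y * u⁻¹ ∈ Y) (hYo : ∀ y ∈ Y, Odd (orderOf y))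
include hYi hYn hYo

/-- the case of dimension three -/
theorem odd_normal_three (h3 : Fintype.card ι = 3) : Y = ⊥ := by
  classical
  obtain ⟨G, hG⟩ : ∃ G, G = Cfsg.isometryGroup F Q := ⟨_, rfl⟩
  obtain ⟨N, hN⟩ : ∃ N, N = Y.subgroupOf G := ⟨_, rfl⟩
  haveI hNn : N.Normal := ⟨fun y hy g => by
    rw [hN, Subgroup.mem_subgroupOf] at hy ⊢
    exact hYn g.1 (hG ▸ g.2) y.1 hy⟩
  by_contra hne
  haveI : Finite (GL ι F) := inferInstance
  have hNo : ∀ y : ↥N, Odd (orderOf y) := fun y => by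
    rw [← Subgroup.orderOf_coe, ← Subgroup.orderOf_coe]
    exact hYo _ (Subgroup.mem_subgroupOf.1 (hN ▸ y.2 : (y : ↥G) ∈ Y.subgroupOf G))
  have hN1 : Nat.card ↥N ≠ 1 := fun e => hne (by
    refine (Subgroup.eq_bot_iff_forall _).2 fun y hy => ?_
    have := congrArg Subtype.val (congrArg Subtype.val ((Nat.card_eq_one_iff_unique.1 e).1.elim
      (⟨⟨y, hG ▸ hYi hy⟩, hN ▸ Subgroup.mem_subgroupOf.2 hy⟩ : ↥N) 1))
    exact this)
  have hNodd : Odd (Nat.card ↥N) := by
    by_contra he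
    obtain ⟨y, hy⟩ := exists_prime_orderOf_dvd_card' 2 (even_iff_two_dvd.1 (Nat.not_odd_iff_even.1 he))
    have := hNo y
    rw [hy] at this
    exact absurd this (by decide)
  obtain ⟨ℓ, hℓ, hℓN⟩ := Nat.exists_prime_and_dvd hN1
  haveI := Fact.mk hℓ
  obtain ⟨P⟩ : Nonempty (Sylow ℓ ↥N) := inferInstance
  obtain ⟨P', hP'⟩ : ∃ P', P' = (P : Subgroup ↥N).map N.subtype := ⟨_, rfl⟩
  haveI : Nontrivial ↥P' := by
    rw [← Finite.one_lt_card_iff_nontrivial, hP', Subgroup.card_map_of_injective N.subtype_injective,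
      P.card_eq_multiplicity]
    exact Nat.one_lt_pow (Nat.Prime.factorization_pos_of_dvd hℓ (Nat.card_pos).ne' hℓN).ne' hℓ.one_lt
  have hPp : IsPGroup ℓ ↥P' := by rw [hP']; exact P.2.map _
  haveI := hPp.center_nontrivial
  obtain ⟨⟨⟨z, hzP⟩, hzc⟩, hz1⟩ := exists_ne (1 : ↥(Subgroup.center ↥P'))
  have hPN : ∀ x ∈ P', x ∈ N := fun x hx => by
    rw [hP'] at hx
    exact Subgroup.map_subtype_le _ hx
  have hodd' : ∀ x ∈ P', Odd (orderOf (x : GL ι F)) := fun x hx => hYo _ (Subgroup.mem_subgroupOf.1 (hN ▸ hPN x hx))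
  have hzi : (z : GL ι F) ∈ Cfsg.isometryGroup F Q := hG ▸ z.2
  have hzne : (z : GL ι F) ≠ 1 := fun e => hz1 (Subtype.ext (Subtype.ext (Subtype.ext e)))
  have hoddι : Odd (Fintype.card ι) := by rw [h3]; decide
  obtain ⟨a, ha0, ha⟩ := exists_fixed_of_det hQ h2 hoddι hzi (det_eq_one_of_odd hQ h2 hoddι hzi (hodd' z hzP))
  obtain ⟨Nr, hNr⟩ : ∃ Nr : Subgroup ↥G, Nr = Subgroup.normalizer (P' : Set ↥G) := ⟨_, rfl⟩
  have hline : ∀ n ∈ Nr, ∃ t : F, t ≠ 0 ∧ ((n : GL ι F) : Matrix ι ι F) *ᵥ a = t • a := by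
    intro n hn
    obtain ⟨w, hw⟩ : ∃ w, w = n * z * n⁻¹ := ⟨_, rfl⟩
    have hwP : w ∈ P' := hw ▸ (Subgroup.mem_normalizer_iff.1 (hNr ▸ hn) z).1 hzP
    have hcom : z * w = w * z := (congrArg Subtype.val (Subgroup.mem_center_iff.1 hzc ⟨w, hwP⟩)).symm
    have hwi : (w : GL ι F) ∈ Cfsg.isometryGroup F Q := hG ▸ w.2
    have hwa := fixes_of_commute hQ h2 h3 hzi hwi (hodd' z hzP) (hodd' w hwP) hzne (congrArg Subtype.val hcom) ha0 ha
    have hwn : ((w : GL ι F) : Matrix ι ι F) *ᵥ (((n : GL ι F) : Matrix ι ι F) *ᵥ a) = ((n : GL ι F) : Matrix ι ι F) *ᵥ a := by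
      rw [← gl_mul_mulVec, show (w : GL ι F) * (n : GL ι F) = (n : GL ι F) * z by
        rw [hw]; simp, gl_mul_mulVec, ha]
    have hwne : (w : GL ι F) ≠ 1 := fun e => hzne (by
      have e' : n * z * n⁻¹ = 1 := hw ▸ Subtype.ext e
      have : z = 1 := by simpa using e'
      rw [this]; rfl)
    have hna : ((n : GL ι F) : Matrix ι ι F) *ᵥ a ∈ Submodule.span F {a} := by
      by_contra hne'
      exact hwne (eq_one_of_two_fixed hQ h2 h3 hwi (hodd' w hwP) (li_pair hQ h2 ha0 hne') hwa hwn)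
    obtain ⟨t, ht⟩ := Submodule.mem_span_singleton.1 hna
    refine ⟨t, fun e => ha0 ?_, ht.symm⟩
    have h := gl_inv_mulVec (n : GL ι F) a
    rw [← ht, e, zero_smul, mulVec_zero] at h
    exact h.symm
  have hfr : Nr ⊔ N = ⊤ := by rw [hNr, hP']; exact Sylow.normalizer_sup_eq_top P
  have hidx : Odd Nr.index := by
    have hc : N.relIndex Nr = N.index := by
      rw [← Subgroup.relIndex_sup_right, hfr, Subgroup.relIndex_top_right]
    have e1 := Nr.index_mul_card
    have e2 := N.index_mul_card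
    have e3 := (N.subgroupOf Nr).index_mul_card
    have hR : 0 < N.index := Nat.pos_of_ne_zero Subgroup.index_ne_zero_of_finite
    rw [← hc] at e2 hR
    change N.relIndex Nr * _ = _ at e3
    have key : Nr.index * Nat.card ↥(N.subgroupOf Nr) = Nat.card ↥N := by
      refine Nat.eq_of_mul_eq_mul_left hR ?_
      rw [e2, ← e1, ← e3]
      ring
    exact hNodd.of_dvd_nat (Dvd.intro _ key)
  -- a conjugate of a group of signs normalises the Sylow subgroup
  obtain ⟨v, hv⟩ := SignGroup.exists_orth hQ h2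
  obtain ⟨E, hE⟩ : ∃ E : Subgroup ↥G, E = ((SignGroup.signG hQ h2 hv).range).subgroupOf G := ⟨_, rfl⟩
  have hEp : IsPGroup 2 ↥E := fun x => ⟨1, by
    obtain ⟨e, he⟩ : ∃ e, SignGroup.signG hQ h2 hv e = ((x : ↥G) : GL ι F) := by
      have hx := x.2
      simp only [hE, Subgroup.mem_subgroupOf] at hx
      exact hx
    refine Subtype.ext (Subtype.ext ?_)
    push_cast
    rw [← he, ← map_pow, show e ^ 2 = 1 from funext fun i => by
      rw [Pi.pow_apply, Pi.one_apply, Int.units_sq], map_one]⟩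
  haveI : Fact (Nat.Prime 2) := ⟨Nat.prime_two⟩
  haveI : Finite ↥G := inferInstance
  obtain ⟨q, hq⟩ : (MulAction.fixedPoints ↥E (↥G ⧸ Nr)).Nonempty := by
    rw [Set.nonempty_iff_ne_empty]
    intro hemp
    have h1 := hEp.card_modEq_card_fixedPoints (↥G ⧸ Nr)
    rw [← Subgroup.index, Nat.card_eq_zero.2 (Or.inl (Set.isEmpty_coe_sort.2 hemp))] at h1
    exact absurd (Nat.modEq_zero_iff_dvd.1 h1) (Nat.two_dvd_ne_zero.2 (Nat.odd_iff.1 hidx))
  obtain ⟨q, rfl⟩ := QuotientGroup.mk_surjective q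
  obtain ⟨a', ha'⟩ : ∃ a', a' = ((q : GL ι F) : Matrix ι ι F) *ᵥ a := ⟨_, rfl⟩
  have ha'0 : a' ≠ 0 := fun e => ha0 (by
    rw [← gl_inv_mulVec (q : GL ι F) a, ← ha', e, mulVec_zero])
  have hsign : ∀ e, ∃ t : F, (SignGroup.signG hQ h2 hv e : Matrix ι ι F) *ᵥ a' = t • a' := fun e => by
    have hmem : SignGroup.signG hQ h2 hv e ∈ G := hG ▸ SignGroup.signG_mem hQ h2 hv e
    have h := hq ⟨⟨_, hmem⟩, hE ▸ Subgroup.mem_subgroupOf.2 ⟨e, rfl⟩⟩
    have h' : ((⟨_, hmem⟩ : ↥G) * q : ↥G ⧸ Nr) = (q : ↥G ⧸ Nr) := h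
    have hn : q⁻¹ * (⟨_, hmem⟩ * q) ∈ Nr := QuotientGroup.eq.1 h'.symm
    obtain ⟨t, -, ht⟩ := hline _ hn
    refine ⟨t, ?_⟩
    rw [ha', ← mulVec_smul, ← ht]
    simp only [Subgroup.coe_mul, Subgroup.coe_inv, ← gl_mul_mulVec, mul_inv_cancel_left]
  -- the line is one of the basis lines
  obtain ⟨i, hi⟩ : ∃ i, pol Q a' (v i) ≠ 0 := by
    by_contra hcon
    push Not at hcon
    obtain ⟨-, y, hy⟩ := hQ.nondegenerate a' ha'0
    refine hy ?_
    rw [← (SignGroup.basis hQ h2 hv).sum_repr y, pol_sum_right hQ, Finset.sum_eq_zero]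
    intro j _
    rw [SignGroup.basis_apply, hcon j, mul_zero]
  obtain ⟨t, ht⟩ := hsign (Pi.mulSingle i (-1))
  have hkey : ∀ j, t * pol Q a' (v j) = (((Pi.mulSingle i (-1) : ι → ℤˣ) j : ℤ) : F) * pol Q a' (v j) := fun j => by
    have h := iso_pol (SignGroup.signG_mem hQ h2 hv (Pi.mulSingle i (-1))) a' (v j)
    rw [ht, SignGroup.signG_apply, psmul_left hQ, psmul_right hQ] at h
    rcases SignGroup.sign_cases (F := F) ((Pi.mulSingle i (-1) : ι → ℤˣ) j) with e | e <;> rw [e] at h ⊢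
    · linear_combination h
    · linear_combination -h
  have ht1 : t = -1 := by
    have h := hkey i
    rw [Pi.mulSingle_eq_same] at h
    exact mul_right_cancel₀ hi (by simpa using h)
  have hperp : ∀ j, j ≠ i → pol Q a' (v j) = 0 := fun j hj => by
    have h := hkey j
    rw [Pi.mulSingle_eq_of_ne hj, ht1] at h
    push_cast at h
    exact (mul_eq_zero.1 (show (2 : F) * pol Q a' (v j) = 0 by linear_combination -h)).resolve_left h2
  obtain ⟨co, hco⟩ : ∃ co, co = pol Q a' (v i) / (2 * Q (v i)) := ⟨_, rfl⟩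
  have haco : a' = co • v i := by
    by_contra hne'
    obtain ⟨-, y, hy⟩ := hQ.nondegenerate (a' - co • v i) (sub_ne_zero.2 hne')
    refine hy ?_
    rw [← (SignGroup.basis hQ h2 hv).sum_repr y, pol_sum_right hQ, Finset.sum_eq_zero]
    intro j _
    rw [SignGroup.basis_apply, psub_left hQ, psmul_left hQ]
    rcases eq_or_ne j i with rfl | hj
    · rw [pself hQ, hco, div_mul_cancel₀ _ (mul_ne_zero h2 (hv.aniso j)), sub_self, mul_zero]
    · rw [hperp j hj, hv.orth i j (Ne.symm hj), mul_zero, sub_zero, mul_zero]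
  have hco0 : co ≠ 0 := fun e => ha'0 (by rw [haco, e, zero_smul])
  -- an orthogonal vector of the same norm
  obtain ⟨j, k, hji, hki, hjk⟩ : ∃ j k : ι, j ≠ i ∧ k ≠ i ∧ j ≠ k := by
    obtain ⟨e⟩ : Nonempty (ι ≃ Fin 3) := ⟨Fintype.equivFinOfCardEq h3⟩
    refine ⟨e.symm (e i + 1), e.symm (e i + 2), ?_, ?_, ?_⟩
    all_goals intro h; have h' := congrArg e h; simp at h'
  obtain ⟨x, y, hxy⟩ : ∃ x y : F, x ^ 2 * Q (v j) + y ^ 2 * Q (v k) = Q a' := by
    open Polynomial in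
    obtain ⟨x, y, hxy⟩ := FiniteField.exists_root_sum_quadratic (R := F)
      (f := C (Q (v j)) * X ^ 2 + C 0 * X + C (-Q a')) (g := C (Q (v k)) * X ^ 2 + C 0 * X + C 0)
      (Polynomial.degree_quadratic (hv.aniso j)) (Polynomial.degree_quadratic (hv.aniso k))
      (FiniteField.odd_card_of_char_ne_two (fun h => h2 (by haveI := ringChar.of_eq h; exact CharTwo.two_eq_zero)))
    simp only [Polynomial.eval_add, Polynomial.eval_mul, Polynomial.eval_C, Polynomial.eval_pow, Polynomial.eval_X] at hxy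
    exact ⟨x, y, by linear_combination hxy⟩
  obtain ⟨b', hb'⟩ : ∃ b', b' = x • v j + y • v k := ⟨_, rfl⟩
  have hQb' : Q b' = Q a' := by
    rw [hb', qadd hQ, qsmul hQ, qsmul hQ, psmul_left hQ, psmul_right hQ, hv.orth j k hjk, ← hxy]
    ring
  have hab' : pol Q a' b' = 0 := by
    rw [hb', padd_right hQ, psmul_right hQ, psmul_right hQ, hperp j hji, hperp k hki, mul_zero, mul_zero, add_zero]
  have hQa' : Q a' ≠ 0 := by rw [haco, qsmul hQ]; exact mul_ne_zero (pow_ne_zero 2 hco0) (hv.aniso i)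
  have hqi : ((q : GL ι F)⁻¹) ∈ Cfsg.isometryGroup F Q := inv_mem (hG ▸ q.2)
  obtain ⟨b, hb⟩ : ∃ b, b = (((q : GL ι F)⁻¹ : GL ι F) : Matrix ι ι F) *ᵥ b' := ⟨_, rfl⟩
  have haq : a = (((q : GL ι F)⁻¹ : GL ι F) : Matrix ι ι F) *ᵥ a' := by rw [ha', gl_inv_mulVec]
  have hQa : Q a ≠ 0 := by rw [haq, mem_iso.1 hqi]; exact hQa'
  have hQb : Q b = Q a := by rw [hb, haq, mem_iso.1 hqi, mem_iso.1 hqi, hQb']
  have hab : pol Q a b = 0 := by rw [hb, haq, iso_pol hqi, hab']
  have hQab : Q (a - b) ≠ 0 := by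
    rw [qsub hQ, hQb, hab, sub_zero, ← two_mul]; exact mul_ne_zero h2 hQa
  obtain ⟨r, hr, hrv⟩ := exists_refl hQ hQab
  have hra : (r : Matrix ι ι F) *ᵥ a = b := by
    rw [hrv, psub_right hQ, pself hQ, hab, sub_zero, qsub hQ, hQb, hab, sub_zero,
      show (Q a + Q a)⁻¹ * (2 * Q a) = 1 by rw [← two_mul, inv_mul_cancel₀ (mul_ne_zero h2 hQa)], one_smul]
    abel
  obtain ⟨y0, hy0, n, hn, hyn⟩ : ∃ y0 ∈ N, ∃ n ∈ Nr, y0 * n = (⟨r, hG ▸ hr⟩ : ↥G) := by
    have : (⟨r, hG ▸ hr⟩ : ↥G) ∈ N ⊔ Nr := by rw [sup_comm, hfr]; exact Subgroup.mem_top _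
    exact Subgroup.mem_sup_of_normal_left.1 this
  obtain ⟨t', ht'0, ht'⟩ := hline n hn
  have hyY : (y0 : GL ι F) ∈ Y := Subgroup.mem_subgroupOf.1 (hN ▸ hy0)
  obtain ⟨ra, hra', hrav⟩ := exists_refl hQ hQa
  have hb0 : Q b ≠ 0 := by rw [hQb]; exact hQa
  obtain ⟨rb, hrb', hrbv⟩ := exists_refl hQ hb0
  have hya : ((y0 : GL ι F) : Matrix ι ι F) *ᵥ a = t'⁻¹ • b := by
    have h := congrArg (fun g : ↥G => ((g : GL ι F) : Matrix ι ι F) *ᵥ a) hyn
    simp only [Subgroup.coe_mul, gl_mul_mulVec, ht', mulVec_smul, hra] at h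
    rw [← h, inv_smul_smul₀ ht'0]
  have hconj : (y0 : GL ι F) * ra * (y0 : GL ι F)⁻¹ = rb := by
    have k1 := hrav.conj (hYi hyY)
    rw [hya] at k1
    exact k1.unique (hrbv.smul hQ (inv_ne_zero ht'0))
  have hmem : rb * ra⁻¹ ∈ Y := by
    rw [← hconj, show (y0 : GL ι F) * ra * (y0 : GL ι F)⁻¹ * ra⁻¹ = y0 * (ra * (y0 : GL ι F)⁻¹ * ra⁻¹) by group]
    exact mul_mem hyY (hYn _ hra' _ (inv_mem hyY))
  have happ : ∀ x, ((rb * ra⁻¹ : GL ι F) : Matrix ι ι F) *ᵥ x =
      x - ((Q a)⁻¹ * pol Q x a) • a - ((Q a)⁻¹ * pol Q x b) • b := fun x => by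
    have hinv : ra⁻¹ = ra := by
      refine inv_eq_of_mul_eq_one_right (gl_ext_vec fun x => ?_)
      rw [gl_mul_mulVec, hrav, hrav, psub_left hQ, psmul_left hQ, pself hQ, Units.val_one, one_mulVec]
      have : (Q a)⁻¹ * (pol Q x a - (Q a)⁻¹ * pol Q x a * (2 * Q a)) = -((Q a)⁻¹ * pol Q x a) := by
        field_simp; ring
      rw [this, neg_smul, sub_neg_eq_add, sub_add_cancel]
    rw [hinv, gl_mul_mulVec, hrbv, hrav, psub_left hQ, psmul_left hQ, hab, mul_zero, sub_zero, hQb]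
  have hpa : ((rb * ra⁻¹ : GL ι F) : Matrix ι ι F) *ᵥ a = -a := by
    rw [happ, pself hQ, hab, mul_zero, zero_smul, sub_zero, show (Q a)⁻¹ * (2 * Q a) = 2 by field_simp, two_smul]
    abel
  have hpow : ((rb * ra⁻¹) ^ orderOf (rb * ra⁻¹) : GL ι F) = 1 := pow_orderOf_eq_one _
  have h7 := pow_fix (s := (-1 : F)) (by rw [hpa, neg_one_smul]) (orderOf (rb * ra⁻¹))
  rw [hpow, (hYo _ hmem).neg_one_pow, Units.val_one, one_mulVec, neg_one_smul] at h7
  have h8 : (2 : F) • a = 0 := by rw [two_smul]; nth_rw 1 [h7]; simp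
  exact ha0 ((smul_eq_zero.1 h8).resolve_left h2)

/-- odd dimension: no non-trivial normal subgroup of odd order -/
theorem odd_normal_eq_bot (hodd : Odd (Fintype.card ι)) : Y = ⊥ := by
  rcases (show Fintype.card ι = 1 ∨ Fintype.card ι = 3 ∨ 5 ≤ Fintype.card ι by
    obtain ⟨j, hj⟩ := hodd; omega) with h1 | h3 | h5
  · refine (Subgroup.eq_bot_iff_forall _).2 fun y hy => ?_
    obtain ⟨i, hi⟩ := Fintype.card_eq_one_iff.1 h1
    haveI : Unique ι := ⟨⟨i⟩, hi⟩
    have hd := det_eq_one_of_odd hQ h2 hodd (hYi hy) (hYo y hy)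
    rw [Matrix.det_unique] at hd
    refine Units.ext (Matrix.ext fun a b => ?_)
    rw [Subsingleton.elim a default, Subsingleton.elim b default, hd, Units.val_one, Matrix.one_apply_eq]
  · exact odd_normal_three hQ h2 Y hYi hYn hYo h3
  obtain ⟨W, hW⟩ : ∃ W : Subgroup ↥(Cfsg.isometryGroup F Q), W = Y.subgroupOf _ := ⟨_, rfl⟩
  haveI : W.Normal := ⟨fun y hy g => by
    rw [hW, Subgroup.mem_subgroupOf] at hy ⊢
    exact hYn g.1 g.2 y.1 hy⟩
  haveI := pomega_isSimple hQ h5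
  have hWo : ∀ y ∈ W, Odd (orderOf y) := fun y hy => by
    rw [← Subgroup.orderOf_coe]
    exact hYo _ (Subgroup.mem_subgroupOf.1 (hW ▸ hy))
  obtain ⟨M, hM⟩ : ∃ M : Subgroup (Cfsg.POmega F Q),
      M = (W.subgroupOf (Cfsg.Omega F Q)).map (QuotientGroup.mk' _) := ⟨_, rfl⟩
  have hMn : M.Normal := hM ▸ Subgroup.Normal.map inferInstance _ (QuotientGroup.mk'_surjective _)
  have hMo : ∀ x ∈ M, Odd (orderOf x) := by
    intro x hx
    rw [hM] at hx
    obtain ⟨s, hs, rfl⟩ := hx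
    refine Odd.of_dvd_nat ?_ (orderOf_map_dvd _ s)
    rw [← Subgroup.orderOf_coe]
    exact hWo _ (Subgroup.mem_subgroupOf.1 hs)
  rcases hMn.eq_bot_or_eq_top with hbot | htop
  swap
  · haveI : Finite (Cfsg.POmega F Q) := Quotient.finite _
    obtain ⟨x, hx⟩ := exists_prime_orderOf_dvd_card' (G := Cfsg.POmega F Q) 2
      (FieldCls.two_dvd_pomega hQ h5 h2)
    have := hMo x (htop ▸ Subgroup.mem_top x)
    rw [hx] at this
    exact absurd this (by decide)
  refine (Subgroup.eq_bot_iff_forall _).2 fun y hy => ?_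
  obtain ⟨y', hy'⟩ : ∃ y' : ↥(Cfsg.isometryGroup F Q), y' = ⟨y, hYi hy⟩ := ⟨_, rfl⟩
  have hy4 : y' ^ 4 ∈ Cfsg.Omega F Q := by
    haveI : (Cfsg.Omega F Q).Normal := by unfold Cfsg.Omega; infer_instance
    have := Subgroup.pow_index_mem (Cfsg.Omega F Q) y'
    rwa [omega_index_odd hQ (by omega) h2] at this
  have hW4 : y' ^ 4 ∈ W := pow_mem (by rw [hW, Subgroup.mem_subgroupOf, hy']; exact hy) 4
  have hz : (⟨y' ^ 4, hy4⟩ : ↥(Cfsg.Omega F Q)) ∈ Subgroup.center _ := by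
    have : QuotientGroup.mk' (Subgroup.center (Cfsg.Omega F Q)) ⟨y' ^ 4, hy4⟩ ∈ M := by
      rw [hM]; exact Subgroup.mem_map_of_mem _ (Subgroup.mem_subgroupOf.2 hW4)
    rw [hbot, Subgroup.mem_bot] at this
    exact (QuotientGroup.eq_one_iff _).1 this
  have hcoe : (((y' ^ 4 : ↥(Cfsg.isometryGroup F Q)) : GL ι F) : Matrix ι ι F) = ((y ^ 4 : GL ι F) : Matrix ι ι F) := by
    rw [hy']; rfl
  have hy41 : y ^ 4 = 1 := by
    rcases omega_center_sign hQ h5 hz with e | e
    · exact Units.ext (hcoe ▸ e)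
    · have hd := det_eq_one_of_odd hQ h2 hodd (pow_mem (hYi hy) 4) (hYo _ (pow_mem hy 4))
      rw [← hcoe] at hd
      rw [e, det_neg, det_one, hodd.neg_one_pow, mul_one] at hd
      exact absurd (by linear_combination -hd) h2
  have h4 : orderOf y ∣ 4 := orderOf_dvd_of_pow_eq_one hy41
  have hco : Nat.Coprime (orderOf y) 4 := by
    have := (Nat.coprime_two_right.2 (hYo y hy)).pow_right 2
    simpa using this
  exact orderOf_eq_one_iff.1 (Nat.eq_one_of_dvd_coprimes hco dvd_rfl h4)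

end CfsgLib.Orth.Balance
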