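import Cfsg.Agent.Lib.Orth.PGOQuot
import Cfsg.Agent.Lib.Orth.Field.CentTools
import Cfsg.Agent.Lib.Orth.Aut.Card

/-!
# Semilinear maps commuting with products of orthogonal reflections
-/

set_option autoImplicit false
set_option linter.all false

namespace CfsgLib.Orth.Balance

open scoped Matrix
open Matrix Cfsg.Geo CfsgLib.Orth CfsgLib.Perm.Asch CfsgLib.Perm.Trans CfsgLib.Perm.Trans.Quad

/-- an additive map fixing every line of a subspace of dimension at least two is a scalar there -/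
theorem eigen_scalar {L : Type*} [Field L] {V : Type*} [AddCommGroup V] [Module L V] (S : V → V)
    (hadd : ∀ x y, S (x + y) = S x + S y) {P : Submodule L V} (hP : 2 ≤ Module.finrank L P)
    (h : ∀ x ∈ P, ∃ α : L, S x = α • x) : ∃ α : L, ∀ x ∈ P, S x = α • x := by
  haveI : Module.Finite L P := Module.finite_of_finrank_pos (by omega)
  have hne : ∀ v : V, ∃ w ∈ P, w ∉ Submodule.span L {v} := fun v => by
    by_contra hcon
    push Not at hcon
    have h1 := Submodule.finrank_mono (show P ≤ Submodule.span L {v} from hcon)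
    rcases eq_or_ne v 0 with rfl | hv
    · rw [Submodule.span_zero_singleton, finrank_bot] at h1; omega
    · rw [finrank_span_singleton hv] at h1; omega
  have hpair : ∀ v ∈ P, ∀ w ∈ P, v ≠ 0 → w ∉ Submodule.span L {v} → ∀ α : L, S v = α • v → S w = α • w := by
    intro v hv w hw hv0 hnot α hα
    obtain ⟨β, hβ⟩ := h w hw
    obtain ⟨γ, hγ⟩ := h (v + w) (P.add_mem hv hw)
    rw [hadd, hα, hβ] at hγ
    have hli : LinearIndependent L ![v, w] :=
      (LinearIndependent.pair_iff' hv0).2 fun t ht => hnot (Submodule.mem_span_singleton.2 ⟨t, ht⟩)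
    have h0 : (α - γ) • v + (β - γ) • w = 0 := by linear_combination (norm := module) hγ
    obtain ⟨e1, e2⟩ := LinearIndependent.pair_iff.1 hli _ _ h0
    rw [hβ, sub_eq_zero.1 e2, ← sub_eq_zero.1 e1]
  obtain ⟨v, hvP, hv⟩ := hne 0
  have hv0 : v ≠ 0 := fun e => hv (by rw [e]; exact Submodule.zero_mem _)
  obtain ⟨α, hα⟩ := h v hvP
  refine ⟨α, fun x hx => ?_⟩
  by_cases hxs : x ∈ Submodule.span L {v}
  · obtain ⟨w, hw, hwv⟩ := hne v
    have hwα := hpair v hvP w hw hv0 hwv α hα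
    have hw0 : w ≠ 0 := fun e => hwv (e ▸ Submodule.zero_mem _)
    rcases eq_or_ne x 0 with rfl | hx0
    · rw [smul_zero]
      have := hadd 0 0
      rw [add_zero] at this
      exact left_eq_add.1 this
    · refine hpair w hw x hx hw0 (fun hc => ?_) α hwα
      obtain ⟨t, rfl⟩ := Submodule.mem_span_singleton.1 hc
      have ht : t ≠ 0 := fun e => hx0 (by rw [e, zero_smul])
      exact hwv (by rw [← inv_smul_smul₀ ht w]; exact Submodule.smul_mem _ _ hxs)
  · exact hpair v hvP x hx hv0 hxs α hα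

/-- two planes through a line -/
theorem mem_line {L : Type*} [Field L] {V : Type*} [AddCommGroup V] [Module L V] {U : Submodule L V} {v w w' x : V}
    (hv : v ∉ U) (hw : w ∈ U) (hw' : w' ∈ U) (hli : LinearIndependent L ![w, w'])
    (h1 : ∃ a b : L, x = a • v + b • w) (h2 : ∃ a b : L, x = a • v + b • w') : ∃ a : L, x = a • v := by
  obtain ⟨a, b, rfl⟩ := h1
  obtain ⟨a', b', e⟩ := h2
  have e1 : (a - a') • v = b' • w' - b • w := by linear_combination (norm := module) e
  have ha : a - a' = 0 := by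
    by_contra hne
    refine hv ?_
    rw [← inv_smul_smul₀ hne v, e1]
    exact U.smul_mem _ (U.sub_mem (U.smul_mem _ hw') (U.smul_mem _ hw))
  rw [ha, zero_smul] at e1
  obtain ⟨hb, -⟩ := LinearIndependent.pair_iff.1 hli (-b) b' (by linear_combination (norm := module) -e1)
  exact ⟨a, by rw [neg_eq_zero.1 hb, zero_smul, add_zero]⟩

variable {F : Type*} [Field F] [Fintype F] {ι : Type} [Fintype ι] [DecidableEq ι] {Q : (ι → F) → F}

local notation "pol" => QuadraticMap.polar

variable (hQ : IsNondegenerateQuadraticForm Q)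
include hQ

/-- two independent vectors of a given value -/
theorem two_values {U : Submodule F (ι → F)} (hU : NdOn Q U) (hd : 3 ≤ Module.finrank F U) (c : F) :
    ∃ w ∈ U, ∃ w' ∈ U, Q w = c ∧ Q w' = c ∧ LinearIndependent F ![w, w'] := by
  obtain ⟨u, hu, hu0, hQu⟩ := exists_qsingular hQ hU hd
  obtain ⟨v, hv, hQv, huv⟩ := exists_qpartner hQ hU hu hu0 hQu
  have hfr := pair_finrank hQ hu hv hQu hQv huv
  obtain ⟨z, hz, hz0⟩ := Submodule.exists_mem_ne_zero_of_ne_bot (p := pairPerp hQ U u v) (fun h0 => by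
    rw [h0, finrank_bot] at hfr; omega)
  obtain ⟨hzU, hzu, hzv⟩ := (mem_pairPerp hQ).1 hz
  refine ⟨u + c • v, U.add_mem hu (U.smul_mem _ hv), u + (c - Q z) • v + z,
    U.add_mem (U.add_mem hu (U.smul_mem _ hv)) hzU, ?_, ?_, ?_⟩
  · rw [qadd hQ, qsmul hQ, hQv, hQu, psmul_right hQ, huv]; ring
  · rw [qadd hQ, qadd hQ, qsmul hQ, hQv, hQu, psmul_right hQ, huv, padd_left hQ, psmul_left hQ, pcomm u z,
      pcomm v z, hzu, hzv]
    ring
  · refine LinearIndependent.pair_iff.2 fun s t hst => ?_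
    have h1 := congrArg (fun x => pol Q x v) hst
    simp only [padd_left hQ, psmul_left hQ, huv, pself hQ, hQv, hzv, pzero_left hQ] at h1
    have ht : t = 0 := by
      by_contra hne
      have h2 : t • z = -((s + t) • u + (s * c + t * (c - Q z)) • v) := by linear_combination (norm := module) hst
      have hst0 : s + t = 0 := by linear_combination h1
      have h3 := congrArg (fun x => pol Q x u) h2
      simp only [pneg_left hQ, padd_left hQ, psmul_left hQ, pself hQ, hQu, hzu, pcomm v u, huv] at h3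
      have hsv : s * c + t * (c - Q z) = 0 := by linear_combination h3
      rw [hst0, hsv, zero_smul, zero_smul, add_zero, neg_zero] at h2
      exact hz0 ((smul_eq_zero.1 h2).resolve_left hne)
    exact ⟨by linear_combination h1 - ht, ht⟩

/-- the product of the reflections in an orthogonal family -/
theorem exists_orefl (h2 : (2 : F) ≠ 0) (hn : 5 ≤ Fintype.card ι) :
    ∀ (t : ℕ) (v : Fin t → ι → F), (∀ i j, i ≠ j → pol Q (v i) (v j) = 0) → (∀ i, Q (v i) ≠ 0) →
      ∃ u ∈ Cfsg.isometryGroup F Q, (u : Matrix ι ι F).det = (-1) ^ t ∧ spn Q u = sqc (∏ i, Q (v i)) ∧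
        ∀ x, (u : Matrix ι ι F) *ᵥ x = x - ∑ i, ((Q (v i))⁻¹ * pol Q x (v i)) • v i := by
  intro t
  induction t with
  | zero =>
    intro v _ _
    exact ⟨1, one_mem _, by simp, by simp [(spn_one hQ).2, sqc_one], fun x => by simp⟩
  | succ t ih =>
    intro v horth hv
    obtain ⟨u, hu, hud, hus, huf⟩ := ih (fun i => v i.succ) (fun i j h => horth _ _ (fun e => h (Fin.succ_injective _ e)))
      (fun i => hv _)
    obtain ⟨r, hr, hrv⟩ := exists_refl hQ (hv 0)
    refine ⟨r * u, mul_mem hr hu, ?_, ?_, fun x => ?_⟩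
    · rw [Units.val_mul, det_mul, hud, det_refl hQ hrv (hv 0), pow_succ']
    · rw [(spn_mul hQ (iso_le_reflGroup hQ (hex_of_two h2) hr) hu).1, (refl_spn hQ hr hrv (hv 0)).2, hus,
        Fin.prod_univ_succ, sqc_mul (hv 0) (Finset.prod_ne_zero_iff.2 fun i _ => hv _)]
    · rw [gl_mul_mulVec, hrv, Fin.sum_univ_succ, huf]
      have e : pol Q (x - ∑ i : Fin t, ((Q (v i.succ))⁻¹ * pol Q x (v i.succ)) • v i.succ) (v 0) = pol Q x (v 0) := by
        rw [psub_left hQ, pol_sum_left hQ, Finset.sum_eq_zero (fun i _ => by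
          rw [horth _ _ (Fin.succ_ne_zero i), mul_zero]), sub_zero]
      rw [e]
      abel

/-- an inner automorphism from an isometry -/
theorem inn_of_det (h2 : (2 : F) ≠ 0) (hn : 5 ≤ Fintype.card ι) {u : GL ι F} (hu : u ∈ Cfsg.isometryGroup F Q)
    (hs : spn Q u = 1) (hd : (u : Matrix ι ι F).det = 1) :
    simHom Q ⟨u, iso_sim hu⟩ ∈ Cfsg.Inn (Cfsg.POmega F Q) := by
  rw [inn_eq]
  exact ⟨⟨u, iso_sim hu⟩, ⟨⟨u, hu⟩, (mem_omega_det hQ hn h2 hu).2 ⟨hs, hd⟩, rfl⟩, rfl⟩

/-- a semisimilarity commuting with such a product keeps the negated space -/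
theorem neg_span (h2 : (2 : F) ≠ 0) (hn : 5 ≤ Fintype.card ι) {t : ℕ} (htn : t + t < Fintype.card ι)
    {v : Fin t → ι → F} (horth : ∀ i j, i ≠ j → pol Q (v i) (v j) = 0) (hv : ∀ i, Q (v i) ≠ 0) {u : GL ι F}
    (hu : u ∈ Cfsg.isometryGroup F Q)
    (huf : ∀ x, (u : Matrix ι ι F) *ᵥ x = x - ∑ i, ((Q (v i))⁻¹ * pol Q x (v i)) • v i) {h : GL ι F} {τ : F ≃+* F}
    (hh : Cfsg.IsSemisimilarityPair Q h τ)
    (hc : ind hh * simHom Q ⟨u, iso_sim hu⟩ = simHom Q ⟨u, iso_sim hu⟩ * ind hh) (j : Fin t) :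
    ∃ a : Fin t → F, ((h : Matrix ι ι F) *ᵥ fun l => τ (v j l)) = ∑ i, a i • v i := by
  obtain ⟨S, hS⟩ : ∃ S : (ι → F) → ι → F, ∀ x, S x = (h : Matrix ι ι F) *ᵥ fun l => τ (x l) :=
    ⟨fun x => (h : Matrix ι ι F) *ᵥ fun l => τ (x l), fun x => rfl⟩
  rw [← hS]
  obtain ⟨d, hd⟩ := id hh
  have hd' : ∀ x, Q (S x) = d * τ (Q x) := fun x => by rw [hS]; exact hd x
  have hSadd : ∀ x y, S (x + y) = S x + S y := fun x y => by
    rw [hS, hS, hS, ← mulVec_add]; congr 1; funext l; simp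
  have hSpol : ∀ x y, pol Q (S x) (S y) = d * τ (pol Q x y) := fun x y => by
    simp only [QuadraticMap.polar, ← hSadd, hd', map_sub]
    ring
  have hsurj : ∀ y, ∃ x, S x = y := fun y => ⟨fun l => τ.symm ((((h⁻¹ : GL ι F) : Matrix ι ι F) *ᵥ y) l), by
    rw [hS]; simp only [RingEquiv.apply_symm_apply]; exact gl_mulVec_inv h y⟩
  rw [show simHom Q ⟨u, iso_sim hu⟩ = ind (sim_pair (iso_sim hu)) from rfl, ind_mul, ind_mul] at hc
  obtain ⟨-, c, hcm⟩ := ind_inj hQ hn hc
  rw [fieldGL_refl] at hcm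
  have hSu : ∀ x, S ((u : Matrix ι ι F) *ᵥ x) = c • ((u : Matrix ι ι F) *ᵥ S x) := fun x => by
    rw [hS, hS, ← fieldGL_mulVec, ← gl_mul_mulVec, hcm, smul_mulVec, ← gl_mul_mulVec]
  have hS0 : ∀ (c : F) x, S (c • x) = τ c • S x := fun c x => by
    rw [hS, hS, ← mulVec_smul]; congr 1; funext l; simp
  have hSsum : ∀ x, S ((u : Matrix ι ι F) *ᵥ x) =
      S x - ∑ i, ((τ (Q (v i)))⁻¹ * τ (pol Q x (v i))) • S (v i) := fun x => by
    let Sh : (ι → F) →+ (ι → F) := AddMonoidHom.mk' S hSadd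
    show Sh _ = Sh x - _
    rw [huf, map_sub, map_sum]
    congr 1
    refine Finset.sum_congr rfl fun i _ => ?_
    show S _ = _
    rw [hS0, map_mul, map_inv₀]
  -- the scalar is one
  have hc1 : c = 1 := by
    obtain ⟨W, hW⟩ : ∃ W, W = Submodule.span F (Set.range (Sum.elim v fun i => S (v i))) := ⟨_, rfl⟩
    have hWd : Module.finrank F W ≤ t + t := by
      have := finrank_range_le_card (R := F) (Sum.elim v fun i => S (v i))
      rw [Fintype.card_sum, Fintype.card_fin] at this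
      rw [hW]; exact this
    have h1 := finrank_qperp hQ W
    obtain ⟨y, hy, hy0⟩ := Submodule.exists_mem_ne_zero_of_ne_bot (p := qperp hQ W) (fun h0 => by
      rw [h0, finrank_bot] at h1; omega)
    rw [hW] at hy
    have hy' := (mem_qperp_span hQ).1 hy
    obtain ⟨x, hx⟩ := hsurj y
    have e1 : ∀ i, τ (pol Q x (v i)) = 0 := fun i => by
      have h := hy' _ ⟨Sum.inr i, rfl⟩
      rw [← hx] at h
      simp only [Sum.elim_inr, hSpol] at h
      exact (mul_eq_zero.1 h).resolve_left d.ne_zero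
    have h2' := hSu x
    rw [hSsum, Finset.sum_eq_zero (fun i _ => by rw [e1, mul_zero, zero_smul]), sub_zero, hx, huf,
      Finset.sum_eq_zero (fun i _ => by rw [show pol Q y (v i) = 0 from hy' _ ⟨Sum.inl i, rfl⟩, mul_zero, zero_smul]),
      sub_zero] at h2'
    by_contra hne
    have : (c - 1) • y = 0 := by rw [sub_smul, one_smul, ← h2', sub_self]
    exact hy0 ((smul_eq_zero.1 this).resolve_left (sub_ne_zero.2 hne))
  have h3 := hSu (v j)
  rw [hSsum, hc1, one_smul, huf, Finset.sum_eq_single j (fun i _ hij => by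
    rw [pcomm, horth i j hij, map_zero, mul_zero, zero_smul]) (by simp), pself hQ,
    map_mul, show (τ (Q (v j)))⁻¹ * (τ 2 * τ (Q (v j))) = 2 by
      rw [mul_comm, mul_assoc, mul_inv_cancel₀ (show τ (Q (v j)) ≠ 0 from (map_ne_zero τ.toRingHom).2 (hv j)), mul_one, map_ofNat]] at h3
  refine ⟨fun i => 2⁻¹ * ((Q (v i))⁻¹ * pol Q (S (v j)) (v i)), ?_⟩
  simp only [mul_smul (2⁻¹ : F), ← Finset.smul_sum]
  rw [eq_inv_smul_iff₀ h2]
  linear_combination (norm := module) -h3

end CfsgLib.Orth.Balance
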