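import Cfsg.Agent.Lib.Orth.Balance.OddCore
import Cfsg.Agent.Lib.Orth.Balance.Pin

/-!
# A small group of automorphisms acts by signs on an odd dimensional constituent
-/

set_option autoImplicit false
set_option linter.all false

namespace CfsgLib.Orth.Balance

open scoped Matrix
open Matrix Cfsg.Geo CfsgLib.Orth CfsgLib.Perm.Asch CfsgLib.Perm.Trans CfsgLib.Perm.Trans.Quad

variable {F : Type*} [Field F] [Fintype F] {ι : Type} [Fintype ι] [DecidableEq ι]
variable {L : Type*} [Field L] [Fintype L] {κ : Type} [Fintype κ] [DecidableEq κ] {Φ : (κ → L) → L}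

theorem rep_sign (hΦ : IsNondegenerateQuadraticForm Φ) (h2 : (2 : L) ≠ 0) (hodd : Odd (Fintype.card κ))
    (e : (κ → L) →+ (ι → F)) (he : Function.Injective e) (Lf Y : Subgroup (GL ι F)) (hYL : Y ≤ Lf)
    (hneg : (-1 : GL ι F) ∈ Y) (hnorm : ∀ u ∈ Lf, ∀ y ∈ Y, u * y * u⁻¹ ∈ Y)
    (hpres : ∀ u ∈ Lf, ∃ U ∈ Cfsg.isometryGroup L Φ, ∀ y, e ((U : Matrix κ κ L) *ᵥ y) = (u : Matrix ι ι F) *ᵥ e y)
    (hext : ∀ U ∈ Cfsg.isometryGroup L Φ, ∃ u ∈ Lf, ∀ y, e ((U : Matrix κ κ L) *ᵥ y) = (u : Matrix ι ι F) *ᵥ e y)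
    {N : ℕ} (hN : Odd N) (hpow : ∀ y ∈ Y, y ^ N = 1 ∨ y ^ N = -1) :
    ∀ u ∈ Y, ∃ ε : F, (ε = 1 ∨ ε = -1) ∧ ∀ y, (u : Matrix ι ι F) *ᵥ e y = ε • e y := by
  have hdet : ∀ U ∈ Cfsg.isometryGroup L Φ, (U : Matrix κ κ L).det = 1 ∨ (U : Matrix κ κ L).det = -1 := by
    intro U hU
    have h1 := det_sq_sim hΦ (g := (U : Matrix κ κ L)) (c := 1) (fun v => by rw [one_mul, mem_iso.1 hU])
    rw [one_pow] at h1
    exact mul_self_eq_one_iff.1 h1
  obtain ⟨Y', hY'⟩ : ∃ Y' : Subgroup (GL κ L), ∀ U, U ∈ Y' ↔ U ∈ Cfsg.isometryGroup L Φ ∧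
      (U : Matrix κ κ L).det = 1 ∧ ∃ u ∈ Y, ∀ y, e ((U : Matrix κ κ L) *ᵥ y) = (u : Matrix ι ι F) *ᵥ e y := by
    refine ⟨{ carrier := {U | U ∈ Cfsg.isometryGroup L Φ ∧
                (U : Matrix κ κ L).det = 1 ∧ ∃ u ∈ Y, ∀ y, e ((U : Matrix κ κ L) *ᵥ y) = (u : Matrix ι ι F) *ᵥ e y}
              mul_mem' := ?_
              one_mem' := ⟨one_mem _, by simp, 1, one_mem _, fun y => by simp⟩
              inv_mem' := ?_ }, fun U => Iff.rfl⟩
    · rintro A B ⟨ha, ha', u, hu, hue⟩ ⟨hb, hb', v, hv, hve⟩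
      refine ⟨mul_mem ha hb, by rw [Units.val_mul, det_mul, ha', hb', one_mul], u * v, mul_mem hu hv, fun y => ?_⟩
      rw [gl_mul_mulVec, hue, hve, gl_mul_mulVec]
    · rintro A ⟨ha, ha', u, hu, hue⟩
      refine ⟨inv_mem ha, ?_, u⁻¹, inv_mem hu, fun y => ?_⟩
      · have h := congrArg (fun X : GL κ L => (X : Matrix κ κ L).det) (mul_inv_cancel A)
        simp only [Units.val_mul, det_mul, ha', one_mul, Units.val_one, det_one] at h
        exact h
      · have h := hue (((A⁻¹ : GL κ L) : Matrix κ κ L) *ᵥ y)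
        rw [gl_mulVec_inv] at h
        rw [h, gl_inv_mulVec]
  have hYb : Y' = ⊥ := by
    refine odd_normal_eq_bot hΦ h2 Y' (fun U hU => ((hY' U).1 hU).1) (fun W hW U hU => ?_) (fun U hU => ?_) hodd
    · obtain ⟨hUi, hUd, u, hu, hue⟩ := (hY' U).1 hU
      obtain ⟨w, hw, hwe⟩ := hext W hW
      refine (hY' _).2 ⟨mul_mem (mul_mem hW hUi) (inv_mem hW), ?_, w * u * w⁻¹, hnorm w hw u hu, fun y => ?_⟩
      · rw [Units.val_mul, Units.val_mul, det_mul_right_comm, ← Units.val_mul, mul_inv_cancel, Units.val_one, one_mul, hUd]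
      · have h := hwe (((W⁻¹ : GL κ L) : Matrix κ κ L) *ᵥ y)
        rw [gl_mulVec_inv] at h
        rw [gl_mul_mulVec, gl_mul_mulVec, hwe, hue, gl_mul_mulVec, gl_mul_mulVec, h, gl_inv_mulVec]
    · obtain ⟨hUi, hUd, u, hu, hue⟩ := (hY' U).1 hU
      have hiter : ∀ k : ℕ, ∀ y, e (((U ^ k : GL κ L) : Matrix κ κ L) *ᵥ y) = ((u ^ k : GL ι F) : Matrix ι ι F) *ᵥ e y := by
        intro k
        induction k with
        | zero => simp
        | succ k ih => intro y; rw [pow_succ, gl_mul_mulVec, ih, hue, pow_succ, gl_mul_mulVec]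
      rcases hpow u hu with h | h
      · have hone : U ^ N = 1 := gl_ext_vec fun y => he (by rw [hiter, h]; simp)
        exact hN.of_dvd_nat (orderOf_dvd_of_pow_eq_one hone)
      · have hm : ((U ^ N : GL κ L) : Matrix κ κ L) = -1 := Matrix.ext_iff_mulVec.2 fun y => he (by
          rw [hiter, h, neg_mulVec, one_mulVec, map_neg, Units.val_neg, Units.val_one, neg_mulVec, one_mulVec])
        have hd := congrArg Matrix.det hm
        rw [Units.val_pow_eq_pow_val, Matrix.det_pow, hUd, one_pow, det_neg, det_one, hodd.neg_one_pow, mul_one] at hd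
        exact absurd (by linear_combination hd) h2
  intro u hu
  obtain ⟨U, hU, hUe⟩ := hpres u (hYL hu)
  rcases hdet U hU with hd | hd
  · have hmem : U ∈ Y' := (hY' U).2 ⟨hU, hd, u, hu, hUe⟩
    rw [hYb, Subgroup.mem_bot] at hmem
    refine ⟨1, Or.inl rfl, fun y => ?_⟩
    rw [← hUe, hmem, Units.val_one, one_mulVec, one_smul]
  · have hmem : -U ∈ Y' := by
      refine (hY' _).2 ⟨mem_iso.2 fun y => ?_, ?_, -1 * u, mul_mem hneg hu, fun y => ?_⟩
      · rw [Units.val_neg, neg_mulVec, qneg hΦ, mem_iso.1 hU]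
      · rw [Units.val_neg, det_neg, hd, hodd.neg_one_pow, neg_one_mul, neg_neg]
      · rw [Units.val_neg, neg_mulVec, map_neg, hUe, gl_mul_mulVec, Units.val_neg, Units.val_one, neg_mulVec, one_mulVec]
    rw [hYb, Subgroup.mem_bot] at hmem
    refine ⟨-1, Or.inr rfl, fun y => ?_⟩
    rw [← hUe, neg_eq_iff_eq_neg.1 hmem, Units.val_neg, Units.val_one, neg_mulVec, one_mulVec, map_neg, neg_one_smul]

end CfsgLib.Orth.Balance
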